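import Mathlib

/-!
# Numbers with small totient (helper320, S4324, CYC)
-/

set_option autoImplicit false

namespace Cfsg.Agent.H320.Cyc

theorem dvd_of_totient_le_four {n : ℕ} (hn : 0 < n) (h : Nat.totient n ≤ 4) : n ∣ 120 := by
  have key : ∀ p k : ℕ, p.Prime → p ^ k ∣ n → p ^ k ∣ 120 := by
    intro p k hp hk
    rcases Nat.eq_zero_or_pos k with rfl | hk0
    · simp
    have h1 : Nat.totient (p ^ k) ≤ 4 :=
      (Nat.le_of_dvd (Nat.totient_pos.2 hn) (Nat.totient_dvd_of_dvd hk)).trans h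
    rw [Nat.totient_prime_pow hp hk0] at h1
    obtain ⟨k, rfl⟩ : ∃ j, k = j + 1 := ⟨k - 1, by omega⟩
    rw [Nat.add_sub_cancel] at h1
    have hp2 := hp.two_le
    have h2 : p - 1 ≤ 4 := (Nat.le_mul_of_pos_left _ (pow_pos hp.pos k)).trans h1
    have h3 : p ≤ 5 := by omega
    interval_cases p
    · have h4 : 2 ^ k ≤ 2 ^ 2 := by omega
      have h5 := (Nat.pow_le_pow_iff_right (by norm_num : 1 < 2)).1 h4
      interval_cases k <;> norm_num
    · have h4 : 3 ^ k < 3 ^ 1 := by omega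
      have h5 := (Nat.pow_lt_pow_iff_right (by norm_num : 1 < 3)).1 h4
      interval_cases k; norm_num
    · exact absurd hp (by norm_num)
    · have h4 : 5 ^ k < 5 ^ 1 := by omega
      have h5 := (Nat.pow_lt_pow_iff_right (by norm_num : 1 < 5)).1 h4
      interval_cases k; norm_num
  exact (Nat.dvd_iff_prime_pow_dvd_dvd 120 n).2 key

theorem mem_of_totient_le_four {n : ℕ} (hn : 0 < n) (h : Nat.totient n ≤ 4) :
    n ∈ ({1, 2, 3, 4, 5, 6, 8, 10, 12} : Finset ℕ) := by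
  have h1 : n ∈ Nat.divisors 120 := Nat.mem_divisors.2 ⟨dvd_of_totient_le_four hn h, by norm_num⟩
  have h2 : ∀ m ∈ Nat.divisors 120, Nat.totient m ≤ 4 → m ∈ ({1, 2, 3, 4, 5, 6, 8, 10, 12} : Finset ℕ) := by
    decide +kernel
  exact h2 n h1 h

theorem mem_of_totient_le_three {n : ℕ} (hn : 0 < n) (h : Nat.totient n ≤ 3) :
    n ∈ ({1, 2, 3, 4, 6} : Finset ℕ) := by
  have h2 : ∀ m ∈ ({1, 2, 3, 4, 5, 6, 8, 10, 12} : Finset ℕ), Nat.totient m ≤ 3 → m ∈ ({1, 2, 3, 4, 6} : Finset ℕ) := by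
    decide +kernel
  exact h2 n (mem_of_totient_le_four hn (by omega)) h

theorem mem_of_totient_le_one {n : ℕ} (hn : 0 < n) (h : Nat.totient n ≤ 1) : n ∈ ({1, 2} : Finset ℕ) := by
  have h2 : ∀ m ∈ ({1, 2, 3, 4, 5, 6, 8, 10, 12} : Finset ℕ), Nat.totient m ≤ 1 → m ∈ ({1, 2} : Finset ℕ) := by
    decide +kernel
  exact h2 n (mem_of_totient_le_four hn (by omega)) h

theorem cast_ne_zero {s r e q : ℕ} (hs : s.Prime) (hr : r.Prime) (hsr : s ≠ r) (hq : r ^ e = q) :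
    (q : ZMod s) ≠ 0 := by
  intro h
  rw [ZMod.natCast_eq_zero_iff, ← hq] at h
  exact hsr ((Nat.prime_dvd_prime_iff_eq hs hr).1 (hs.dvd_of_dvd_pow h))

theorem orderOf_pos_of_ne {s : ℕ} [hs : Fact s.Prime] {j : ZMod s} (hj : j ≠ 0) : 0 < orderOf j := by
  refine orderOf_pos_iff.2 (isOfFinOrder_iff_pow_eq_one.2 ⟨s - 1, ?_, ZMod.pow_card_sub_one_eq_one hj⟩)
  have := hs.out.two_le
  omega

theorem orderOf_dvd_sub_one {s : ℕ} [hs : Fact s.Prime] {j : ZMod s} (hj : j ≠ 0) : orderOf j ∣ s - 1 :=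
  orderOf_dvd_of_pow_eq_one (ZMod.pow_card_sub_one_eq_one hj)

end Cfsg.Agent.H320.Cyc
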