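import Cfsg.Agent.H320.Cyc.Lat
import Cfsg.Agent.H320.Cyc.Num
import Cfsg.Agent.H38.Int.Two
import Cfsg.Agent.S1067

/-!
# Noncyclic Sylow subgroups of the finite exceptional groups: the order of `q` modulo `s` (helper320, S4324, CYC)

`s` an odd prime, not the characteristic, with noncyclic Sylow `s`-subgroups: the order of `q` modulo `s` lies in
`{1, 2}` (`G₂`), `{1, 2, 3, 4, 6}` (`F₄`, `E₆`, `E₇`, `²E₆`), `{1, 2, 3, 4, 5, 6, 8, 10, 12}` (`E₈`), `{1, 2, 3, 6}` (`³D₄`).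
-/

set_option autoImplicit false
set_option linter.unusedSectionVars false

namespace Cfsg.Agent.H320.Cyc

open CoxeterSystem Cfsg Cfsg.Lie Cfsg.Lie.ChevalleyDatum
open Cfsg.Agent.Nodes.RGDChev Cfsg.Agent.H469.Exc Cfsg.Agent.H316.U6 Cfsg.Agent.BpExc.TowChev Cfsg.Agent.BpExc.FamInst

universe u v

variable {D : ChevalleyDatum} {l : ℕ} {M : CoxeterMatrix (Fin l)} {hp : IsType D l M} {r q : ℕ}
  [hr : Fact r.Prime] {K₀ : Type v} [Group K₀]

theorem ne_of_nroots {D D' : ChevalleyDatum} (h : D.nroots ≠ D'.nroots) : D ≠ D' := fun e => h (congrArg _ e)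

theorem MData_ne_zero (m : MData hp r q K₀) {s : ℕ} (hs : s.Prime) (hsr : s ≠ r) : (q : ZMod s) ≠ 0 :=
  cast_ne_zero hs hr.out hsr m.hq

/-- **The bound.** -/
theorem two_totient (m : MData hp r q K₀) {s : ℕ} (hs : s.Prime) (hsr : s ≠ r) (hT : Toral m s) :
    2 * Nat.totient (orderOf (q : ZMod s)) ≤ l := by
  have : Fact s.Prime := ⟨hs⟩
  have hfin := MData.finite m
  obtain ⟨E, hE1, -, hE3, z, hz⟩ := hT
  obtain ⟨w, N, hN, hw, hk⟩ := exists_mat m hsr (ι := ↥E) hE3 (fun a => (a : K₀)) Subtype.val_injective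
    (fun a => hE1 a a.2) (fun a => hz a a.2)
  exact H38.IntTwo.int_two hN hw (MData_ne_zero m hs hsr) hk

/-- a noncyclic Sylow subgroup contains an elementary abelian subgroup of order `s ^ 2` -/
theorem exists_elem {K : Type v} [Group K] [Finite K] {s : ℕ} [Fact s.Prime] (hs2 : s ≠ 2) (P : Sylow s K)
    (hP : ¬ IsCyclic (P : Subgroup K)) : ∃ E : Subgroup K, IsElementaryAbelian s E ∧ Nat.card ↥E = s ^ 2 := by
  obtain ⟨A, -, hA, hA2⟩ := Cfsg.Agent.S0126.result hs2 P.2 hP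
  refine ⟨A.map (P : Subgroup K).subtype, ⟨?_, ?_⟩, ?_⟩
  · refine ⟨⟨?_⟩⟩
    rintro ⟨_, a, ha, rfl⟩ ⟨_, b, hb, rfl⟩
    have h1 := hA.1.is_comm.comm (⟨a, ha⟩ : ↥A) ⟨b, hb⟩
    have h2 := congrArg (fun z : ↥A => ((z : ↥(P : Subgroup K)) : K)) h1
    exact Subtype.ext h2
  · rintro _ ⟨a, ha, rfl⟩
    have h1 := hA.2 a ha
    exact congrArg Subtype.val h1
  · rw [Subgroup.card_map_of_injective (Subgroup.subtype_injective _)]
    exact hA2

/-- **The bound for the order of `q`.** -/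
theorem bound (m : MData hp r q K₀) {s : ℕ} (hs : s.Prime) (h3 : 3 ≤ s) (hsr : s ≠ r) [Finite K₀] (P : Sylow s K₀)
    (hP : ¬ IsCyclic (P : Subgroup K₀)) : (s = 3 ∨ s = 5 ∧ D = chevE8) ∨ 2 * Nat.totient (orderOf (q : ZMod s)) ≤ l := by
  have : Fact s.Prime := ⟨hs⟩
  by_cases h : s = 3 ∨ s = 5 ∧ D = chevE8
  · exact Or.inl h
  right
  push Not at h
  obtain ⟨E, hE, hE2⟩ := exists_elem (by omega) P hP
  have h5 : 5 ≤ s := by
    by_contra hlt
    have h4 : s ≠ 4 := by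
      rintro rfl
      exact absurd hs (by norm_num)
    have := h.1
    omega
  exact two_totient m hs hsr (H508.Tor.toral_five m hs h5 (fun hD h1 => h.2 h1 hD) hsr hE hE2)

theorem small_three {s : ℕ} (h : s = 3) {j : ZMod s} (hj : j ≠ 0) : orderOf j ∈ ({1, 2} : Finset ℕ) := by
  subst h
  have : Fact (Nat.Prime 3) := ⟨Nat.prime_three⟩
  have h1 := orderOf_dvd_sub_one hj
  rcases (Nat.dvd_prime Nat.prime_two).1 h1 with h2 | h2 <;> rw [h2] <;> decide

theorem small_five {s : ℕ} (h : s = 5) {j : ZMod s} (hj : j ≠ 0) : orderOf j ∈ ({1, 2, 4} : Finset ℕ) := by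
  subst h
  have : Fact (Nat.Prime 5) := ⟨Nat.prime_five⟩
  have h1 : orderOf j ∣ 4 := orderOf_dvd_sub_one hj
  have h2 : orderOf j ∈ Nat.divisors 4 := Nat.mem_divisors.2 ⟨h1, by norm_num⟩
  have h3 : Nat.divisors 4 = {1, 2, 4} := by decide +kernel
  rwa [h3] at h2

theorem mem_of_bound {s : ℕ} (hs : s.Prime) {j : ZMod s} (hj : j ≠ 0) {D : ChevalleyDatum}
    (h : (s = 3 ∨ s = 5 ∧ D = chevE8) ∨ 2 * Nat.totient (orderOf j) ≤ l) (hl : l ≤ 8) :
    orderOf j ∈ ({1, 2, 3, 4, 5, 6, 8, 10, 12} : Finset ℕ) ∧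
      ((D ≠ chevE8 ∧ l ≤ 7) → orderOf j ∈ ({1, 2, 3, 4, 6} : Finset ℕ)) ∧
      ((D ≠ chevE8 ∧ l ≤ 3) → orderOf j ∈ ({1, 2} : Finset ℕ)) := by
  have : Fact s.Prime := ⟨hs⟩
  have h0 := orderOf_pos_of_ne hj
  rcases h with (h | ⟨h, hD⟩) | h
  · have h1 := small_three h hj
    rw [Finset.mem_insert, Finset.mem_singleton] at h1
    refine ⟨?_, fun _ => ?_, fun _ => ?_⟩ <;> rcases h1 with h1 | h1 <;> rw [h1] <;> decide
  · have h1 := small_five h hj
    refine ⟨?_, fun h2 => absurd hD h2.1, fun h2 => absurd hD h2.1⟩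
    rw [Finset.mem_insert, Finset.mem_insert, Finset.mem_singleton] at h1
    rcases h1 with h1 | h1 | h1 <;> rw [h1] <;> decide
  · refine ⟨mem_of_totient_le_four h0 (by omega), fun h2 => mem_of_totient_le_three h0 (by omega),
      fun h2 => mem_of_totient_le_one h0 (by omega)⟩

theorem sylow_congr {K : Type u} {K' : Type v} [Group K] [Group K'] [Finite K] [Finite K'] (e : K ≃* K') {s : ℕ}
    [Fact s.Prime] (P : Sylow s K) (hP : ¬ IsCyclic (P : Subgroup K)) : ∃ P' : Sylow s K', ¬ IsCyclic (P' : Subgroup K') := by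
  obtain ⟨P'⟩ : Nonempty (Sylow s K') := inferInstance
  refine ⟨P', fun hc => hP ?_⟩
  have h1 : IsCyclic ↥((P' : Subgroup K').comap e.toMonoidHom) := by
    have h2 : (((P' : Subgroup K').comap e.toMonoidHom).map e.toMonoidHom) = P' :=
      Subgroup.map_comap_eq_self (fun x _ => ⟨e.symm x, e.apply_symm_apply x⟩)
    have e2 := ((P' : Subgroup K').comap e.toMonoidHom).equivMapOfInjective e.toMonoidHom e.injective
    rw [h2] at e2
    exact e2.isCyclic.2 hc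
  have h3 : ∃ P'' : Sylow s K, (P'' : Subgroup K) = (P' : Subgroup K').comap e.toMonoidHom :=
    ⟨P'.comapOfInjective e.toMonoidHom e.injective (fun x _ => ⟨e.symm x, e.apply_symm_apply x⟩), rfl⟩
  obtain ⟨P'', hP''⟩ := h3
  rw [← hP''] at h1
  exact ((Sylow.equiv P'' P).isCyclic).1 h1

section Fam

variable {F : Type} [Field F] [Fintype F] {t : ℕ} [Fact t.Prime] [CharP F t] {K : Type u} [Group K] [Finite K]
  {s : ℕ}

theorem ord_untw (hp : IsType D l M) (hB2 : D ≠ chevB2) (hD4 : D ≠ chevD4) (e : K ≃* D.group F) (hs : s.Prime)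
    (h3 : 3 ≤ s) (hst : s ≠ t) (P : Sylow s K) (hP : ¬ IsCyclic (P : Subgroup K)) (hl : l ≤ 8) :
    orderOf ((Fintype.card F : ℕ) : ZMod s) ∈ ({1, 2, 3, 4, 5, 6, 8, 10, 12} : Finset ℕ) ∧
      ((D ≠ chevE8 ∧ l ≤ 7) → orderOf ((Fintype.card F : ℕ) : ZMod s) ∈ ({1, 2, 3, 4, 6} : Finset ℕ)) ∧
      ((D ≠ chevE8 ∧ l ≤ 3) → orderOf ((Fintype.card F : ℕ) : ZMod s) ∈ ({1, 2} : Finset ℕ)) := by
  have : Fact s.Prime := ⟨hs⟩
  obtain ⟨m, -, -⟩ := mdata_untw (r := t) hp hB2 hD4 F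
  have hfin := MData.finite m
  obtain ⟨P', hP'⟩ := sylow_congr e P hP
  exact mem_of_bound hs (MData_ne_zero m hs hst) (bound m hs h3 hst P' hP') hl

theorem ord_G2 (e : K ≃* Lie.chevG2.group F) (hs : s.Prime) (h3 : 3 ≤ s) (hst : s ≠ t) (P : Sylow s K)
    (hP : ¬ IsCyclic (P : Subgroup K)) : orderOf ((Fintype.card F : ℕ) : ZMod s) ∈ ({1, 2} : Finset ℕ) :=
  (ord_untw (D := chevG2) (M := CoxeterMatrix.G₂) (by simp) (ne_of_nroots (by decide)) (ne_of_nroots (by decide)) e hs h3 hst P hP (by norm_num)).2.2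
    ⟨ne_of_nroots (by decide), by norm_num⟩

theorem ord_F4 (e : K ≃* Lie.chevF4.group F) (hs : s.Prime) (h3 : 3 ≤ s) (hst : s ≠ t) (P : Sylow s K)
    (hP : ¬ IsCyclic (P : Subgroup K)) : orderOf ((Fintype.card F : ℕ) : ZMod s) ∈ ({1, 2, 3, 4, 6} : Finset ℕ) :=
  (ord_untw (D := chevF4) (M := CoxeterMatrix.F₄) (by simp) (ne_of_nroots (by decide)) (ne_of_nroots (by decide)) e hs h3 hst P hP (by norm_num)).2.1
    ⟨ne_of_nroots (by decide), by norm_num⟩

theorem ord_E6 (e : K ≃* Lie.chevE6.group F) (hs : s.Prime) (h3 : 3 ≤ s) (hst : s ≠ t) (P : Sylow s K)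
    (hP : ¬ IsCyclic (P : Subgroup K)) : orderOf ((Fintype.card F : ℕ) : ZMod s) ∈ ({1, 2, 3, 4, 6} : Finset ℕ) :=
  (ord_untw (D := chevE6) (M := CoxeterMatrix.E₆) (by simp) (ne_of_nroots (by decide)) (ne_of_nroots (by decide)) e hs h3 hst P hP (by norm_num)).2.1
    ⟨ne_of_nroots (by decide), by norm_num⟩

theorem ord_E7 (e : K ≃* Lie.chevE7.group F) (hs : s.Prime) (h3 : 3 ≤ s) (hst : s ≠ t) (P : Sylow s K)
    (hP : ¬ IsCyclic (P : Subgroup K)) : orderOf ((Fintype.card F : ℕ) : ZMod s) ∈ ({1, 2, 3, 4, 6} : Finset ℕ) :=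
  (ord_untw (D := chevE7) (M := CoxeterMatrix.E₇) (by simp) (ne_of_nroots (by decide)) (ne_of_nroots (by decide)) e hs h3 hst P hP (by norm_num)).2.1
    ⟨ne_of_nroots (by decide), by norm_num⟩

theorem ord_E8 (e : K ≃* Lie.chevE8.group F) (hs : s.Prime) (h3 : 3 ≤ s) (hst : s ≠ t) (P : Sylow s K)
    (hP : ¬ IsCyclic (P : Subgroup K)) :
    orderOf ((Fintype.card F : ℕ) : ZMod s) ∈ ({1, 2, 3, 4, 5, 6, 8, 10, 12} : Finset ℕ) :=
  (ord_untw (D := chevE8) (M := CoxeterMatrix.E₈) (by simp) (ne_of_nroots (by decide)) (ne_of_nroots (by decide)) e hs h3 hst P hP (by norm_num)).1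

theorem ord_twE6 {q : ℕ} (hq : IsPrimePow q) (hF : Fintype.card F = q ^ 2) (e : K ≃* Lie.twistedE6 F q)
    (hs : s.Prime) (h3 : 3 ≤ s) (hst : s ≠ t) (P : Sylow s K) (hP : ¬ IsCyclic (P : Subgroup K)) :
    orderOf (q : ZMod s) ∈ ({1, 2, 3, 4, 6} : Finset ℕ) := by
  have : Fact s.Prime := ⟨hs⟩
  obtain ⟨m⟩ := mdata_twE6 (r := t) hq hF
  have hfin := MData.finite m
  obtain ⟨P', hP'⟩ := sylow_congr e P hP
  exact (mem_of_bound hs (MData_ne_zero m hs hst) (bound m hs h3 hst P' hP') (by norm_num)).2.1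
    ⟨ne_of_nroots (by decide), by norm_num⟩

theorem ord_twD4 {q : ℕ} (hq : IsPrimePow q) (hF : Fintype.card F = q ^ 3) (e : K ≃* Lie.twistedD4 F q)
    (hs : s.Prime) (h3 : 3 ≤ s) (hst : s ≠ t) (P : Sylow s K) (hP : ¬ IsCyclic (P : Subgroup K)) :
    orderOf (q : ZMod s) ∈ ({1, 2, 3, 6} : Finset ℕ) := by
  have : Fact s.Prime := ⟨hs⟩
  obtain ⟨m⟩ := mdata_twD4 (r := t) hq hF
  have hfin := MData.finite m
  obtain ⟨P', hP'⟩ := sylow_congr e P hP
  have h1 := (mem_of_bound hs (MData_ne_zero m hs hst) (bound m hs h3 hst P' hP') (by norm_num)).2.1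
    ⟨ne_of_nroots (by decide), by norm_num⟩
  have h4 : orderOf (q : ZMod s) ≠ 4 := by
    intro h4
    have h5 : (q : ZMod s) ^ 4 = 1 := by rw [← h4, pow_orderOf_eq_one]
    have h6 : (q : ZMod s) ^ 2 = -1 := by
      have h7 : ((q : ZMod s) ^ 2 - 1) * ((q : ZMod s) ^ 2 + 1) = 0 := by
        linear_combination h5
      rcases mul_eq_zero.1 h7 with h8 | h8
      · exfalso
        have h9 := orderOf_dvd_of_pow_eq_one (sub_eq_zero.1 h8)
        rw [h4] at h9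
        exact absurd h9 (by norm_num)
      · exact eq_neg_of_add_eq_zero_left h8
    have h7 : s ∣ Nat.card ↥(Lie.twistedD4 F q) := by
      by_contra hd
      apply hP'
      have h8 : (P' : Subgroup ↥(Lie.twistedD4 F q)) = ⊥ := by
        have h9 := IsPGroup.iff_card.1 P'.2
        obtain ⟨n, hn⟩ := h9
        rcases Nat.eq_zero_or_pos n with rfl | hn0
        · exact Subgroup.card_eq_one.1 (by rw [hn, pow_zero])
        · exact absurd ((dvd_pow_self s hn0.ne').trans (hn ▸ Subgroup.card_subgroup_dvd_card _)) hd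
      rw [h8]
      infer_instance
    rw [Cfsg.Agent.S1067.result hq hF] at h7
    have h8 : ((q ^ 12 * (q ^ 2 - 1) * (q ^ 6 - 1) * (q ^ 8 + q ^ 4 + 1) : ℕ) : ZMod s) = 0 :=
      (ZMod.natCast_eq_zero_iff _ _).2 h7
    have hq1 : 1 ≤ q := hq.pos
    rw [Nat.cast_mul, Nat.cast_mul, Nat.cast_mul, Nat.cast_sub (Nat.one_le_pow _ _ hq1),
      Nat.cast_sub (Nat.one_le_pow _ _ hq1)] at h8
    push_cast at h8
    have h12 : (q : ZMod s) ^ 12 = 1 := by
      have : (q : ZMod s) ^ 12 = ((q : ZMod s) ^ 4) ^ 3 := by ring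
      rw [this, h5, one_pow]
    have h62 : (q : ZMod s) ^ 6 = -1 := by
      have : (q : ZMod s) ^ 6 = (q : ZMod s) ^ 4 * (q : ZMod s) ^ 2 := by ring
      rw [this, h5, h6, one_mul]
    have h82 : (q : ZMod s) ^ 8 = 1 := by
      have : (q : ZMod s) ^ 8 = ((q : ZMod s) ^ 4) ^ 2 := by ring
      rw [this, h5, one_pow]
    rw [h12, h62, h82, h5, h6] at h8
    have h9 : ((12 : ℕ) : ZMod s) = 0 := by
      push_cast
      linear_combination h8
    rw [ZMod.natCast_eq_zero_iff] at h9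
    have h10 : s ∣ 2 ^ 2 * 3 := h9
    rcases hs.dvd_mul.1 h10 with h11 | h11
    · have := (Nat.prime_dvd_prime_iff_eq hs Nat.prime_two).1 (hs.dvd_of_dvd_pow h11)
      omega
    · have h12 := (Nat.prime_dvd_prime_iff_eq hs Nat.prime_three).1 h11
      have h13 := small_three h12 (MData_ne_zero m hs hst)
      rw [h4] at h13
      exact absurd h13 (by decide)
  simp only [Finset.mem_insert, Finset.mem_singleton] at h1 ⊢
  tauto

end Fam

end Cfsg.Agent.H320.Cyc
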