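import Cfsg.Agent.H320.Cyc.E8Tab6
import Cfsg.Agent.H320.Cyc.LeftE8

/-!
# S4324, `E₈(q)`, `ord_s(q) = 10`: the residue `E₆ × A₁` (helper320)

The same argument as in `LeftE8` with the level the coefficient on the fundamental root `6` : the group `ME` of even
level has type `E₇ A₁`, the abelian group `V2` of level two is generated by 27 root groups.

* `left_inner` : inner automorphisms (from `PC` only); `left6`, `left6_false` : all automorphisms (`FC s m x`, `11 ≤ m`).
-/

set_option autoImplicit false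
set_option linter.unusedSectionVars false

namespace Cfsg.Agent.H320.Cyc.LeftE8b

open Cfsg Subgroup Cfsg.Agent.H216.Pi Cfsg.Agent.H459.Gallery Cfsg.Agent.Schreier.BNSch
open Cfsg.Agent.H470.PiRad.CosetSys Cfsg.Agent.H470.PiRad.Par Cfsg.Agent.H470.PiRad.Mod
open CoxeterSystem Cfsg.Agent.ChevalleyStructure.CoxeterGeom Cfsg.Agent.Tits.Roots
  Cfsg.Agent.Nodes.Reps Cfsg.Agent.Nodes.BNOf Cfsg.Agent.Nodes.LeviDec Cfsg.Agent.Nodes.Bruhat
  Cfsg.Agent.KFacts.RgdCharP Cfsg.Agent.KFacts.RgdVJ Cfsg.Agent.Nodes.Comb Cfsg.Agent.Nodes.StabComb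
open Cfsg.Lie Cfsg.Agent.ChevalleyStructure Cfsg.Agent.ChevalleyStructure.Elts
  Cfsg.Agent.ChevalleyStructure.RootVec Cfsg.Agent.ChevalleyStructure.RootVecTab
  Cfsg.Agent.ChevalleyStructure.NPerm Cfsg.Agent.ChevalleyStructure.CoxeterGeomTypes
open Cfsg.Agent.Nodes.RGDChev Cfsg.Agent.H35.ExcIdx Cfsg.Agent.H79.SimpleGen
open Cfsg.Agent.H320.Cyc.E8Tab (st em okF runF okF_none okF_some runF_nil runF_none runF_some em_nil chkF chkF_all act)
open Cfsg.Agent.H320.Cyc.E8Tab6
open Cfsg.Agent.H320.Cyc.LeftE8 (card_sup_dvd' exists_conj_mem nroots_E8 chk8 commTerms_cases xx lt_n xx_comm_nil xx_comm_one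
  term_rt st_eq neg_lev cs8 X8 T8 mem_X8 root8 isRoot8 D8 cm cm_one rn rn_one prod_single rep_act not_dvd_T8 not_dvd_VJ
  normalizer_le F_of_mem mem_of_F inner_of_diag center_eq_bot)

section Com

variable {F : Type} [Field F]

theorem lev_lt {r : ℕ} (hr : r < 240) : rt chevE8 r 6 ≤ 3 := by
  have := List.all_eq_true.1 lev_le r (List.mem_range.2 hr)
  simpa using this

/-- the roots with a condition on the coefficient of the fundamental root `1` -/
def RS (P : ℤ → Prop) : Set (Fin 8 → ℤ) := {x | IsRoot cs8 hpE8.isCartan x ∧ P (x 6)}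

variable (F) in
/-- the subgroup generated by the root groups of level two -/
def V2 : Subgroup ↥(chevE8.group F) := RGD.Sup (X8 F) (RS fun z => z = 2)

variable (F) in
/-- the subgroup generated by the torus and the root groups of even level -/
def ME : Subgroup ↥(chevE8.group F) := T8 F ⊔ RGD.Sup (X8 F) (RS fun z => z % 2 = 0)

theorem xx_mem_Sup {P : ℤ → Prop} {r : ℕ} (hr : r < 240) (h : P (rt chevE8 r 6)) (u : F) :
    xx r u ∈ RGD.Sup (X8 F) (RS P) :=
  RGD.le_Sup (X := X8 F) (S := RS P) (z := vec chevE8 8 r) ⟨isRoot8 hr, h⟩ ((mem_X8 hr).2 ⟨u, rfl⟩)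

theorem Sup_le8 {P : ℤ → Prop} {K : Subgroup ↥(chevE8.group F)}
    (h : ∀ r < 240, P (rt chevE8 r 6) → ∀ u, xx r u ∈ K) : RGD.Sup (X8 F) (RS P) ≤ K := by
  refine RGD.Sup_le ?_
  rintro x ⟨hx, hP⟩
  obtain ⟨r, hr, rfl⟩ := root8 hx
  intro g hg
  obtain ⟨u, rfl⟩ := (mem_X8 hr).1 hg
  exact h r hr hP u

theorem V2_le_ME : V2 F ≤ ME F :=
  le_trans (RGD.Sup_mono (S := RS fun z => z = 2) (S' := RS fun z => z % 2 = 0) fun x hx => ⟨hx.1, by
    have : x 6 = 2 := hx.2
    rw [this]; rfl⟩) le_sup_right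

/-- the Levi subgroup of type `A₇` -/
abbrev J6 : Set (Fin 8) := ((Finset.univ.erase 6 : Finset (Fin 8)) : Set (Fin 8))

theorem rootsJ_sub : RootsJ cs8 hpE8.isCartan J6 ⊆ RS fun z => z = 0 := by
  rintro x ⟨hx, h⟩
  exact ⟨hx, h 6 (by simp [J6])⟩

theorem LJ_le_ME : LJ cs8 hpE8.isCartan (T8 F) (X8 F) J6 ≤ ME F := by
  refine sup_le_sup_left (RGD.Sup_mono (S := RootsJ cs8 hpE8.isCartan J6) (S' := RS fun z => z % 2 = 0) fun x hx => ?_) _
  have h1 := rootsJ_sub hx
  exact ⟨h1.1, by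
    have : x 6 = 0 := h1.2
    rw [this]; rfl⟩

/-- level zero acts on level two -/
theorem conj_two {b a : ℕ} (hb : b < 240) (ha : a < 240) (hb0 : rt chevE8 b 6 = 0) (ha2 : rt chevE8 a 6 = 2) (v u : F) :
    (xx b v)⁻¹ * xx a u * xx b v ∈ V2 F ∧ (xx a u)⁻¹ * ((xx b v)⁻¹ * xx a u * xx b v) ∈ V2 F := by
  have h1 : a ≠ b := by
    intro h
    rw [h, hb0] at ha2
    exact absurd ha2 (by norm_num)
  have h2 : a ≠ chevE8.neg b := by
    intro h
    rw [h, neg_lev hb, hb0] at ha2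
    exact absurd ha2 (by norm_num)
  have hau : xx a u ∈ V2 F := xx_mem_Sup (P := fun z => z = 2) ha ha2 u
  rcases commTerms_cases b a with h | ⟨l, c, h⟩
  · have h3 := xx_comm_nil hb ha h1 h2 h v u
    have h4 : (xx b v)⁻¹ * xx a u * xx b v = xx a u := by
      rw [mul_assoc, h3]; group
    rw [h4]
    exact ⟨hau, by rw [inv_mul_cancel]; exact one_mem _⟩
  · have h3 := xx_comm_one hb ha h1 h2 h v u
    obtain ⟨hl, hlr⟩ := term_rt h
    have h4 : (xx b v)⁻¹ * xx a u * xx b v = xx a u * xx l (-(c : F) * v * u) := by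
      rw [mul_assoc, h3]; group
    have h5 : xx l (-(c : F) * v * u) ∈ V2 F :=
      xx_mem_Sup (P := fun z => z = 2) hl (by rw [hlr, hb0, ha2]; rfl) _
    rw [h4]
    refine ⟨mul_mem hau h5, ?_⟩
    rw [inv_mul_cancel_left]
    exact h5

theorem comm_two {b a : ℕ} (hb : b < 240) (ha : a < 240) (hb0 : rt chevE8 b 6 = 2) (ha2 : rt chevE8 a 6 = 2) (v u : F) :
    xx a u * xx b v = xx b v * xx a u := by
  by_cases h1 : a = b
  · subst h1
    rw [xS_mul, xS_mul, add_comm]
  have h2 : a ≠ chevE8.neg b := by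
    intro h
    rw [h, neg_lev hb, hb0] at ha2
    exact absurd ha2 (by norm_num)
  rcases commTerms_cases b a with h | ⟨l, c, h⟩
  · exact xx_comm_nil hb ha h1 h2 h v u
  · exfalso
    obtain ⟨hl, hlr⟩ := term_rt h
    have h4 := lev_lt hl
    rw [hlr, hb0, ha2] at h4
    exact absurd h4 (by norm_num)

theorem V2_comm {v v' : ↥(chevE8.group F)} (hv : v ∈ V2 F) (hv' : v' ∈ V2 F) : v * v' = v' * v := by
  have h1 : V2 F ≤ centralizer (V2 F : Set ↥(chevE8.group F)) := by
    refine Sup_le8 fun r hr h u => ?_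
    have h2 : V2 F ≤ centralizer ({xx r u} : Set ↥(chevE8.group F)) := by
      refine Sup_le8 fun r' hr' h' u' => ?_
      rw [mem_centralizer_iff]
      intro y hy
      rw [Set.mem_singleton_iff] at hy
      subst hy
      exact comm_two hr' hr h' h u' u
    rw [mem_centralizer_iff]
    intro y hy
    exact (mem_centralizer_iff.1 (h2 hy) _ (Set.mem_singleton _)).symm
  exact (mem_centralizer_iff.1 (h1 hv) _ hv').symm

variable [Fintype F] (t : ℕ) [Fact t.Prime] [CharP F t]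

include t in
theorem LJ_conj_V2 {g v : ↥(chevE8.group F)} (hg : g ∈ LJ cs8 hpE8.isCartan (T8 F) (X8 F) J6) (hv : v ∈ V2 F) :
    g * v * g⁻¹ ∈ V2 F := by
  have key : LJ cs8 hpE8.isCartan (T8 F) (X8 F) J6 ≤ normalizer (V2 F : Set ↥(chevE8.group F)) := by
    refine sup_le ?_ ?_
    · intro g hg
      refine mem_normalizer_of fun r hr => ?_
      have h1 : V2 F ≤ (V2 F).comap (MulAut.conj g).toMonoidHom := by
        refine RGD.Sup_le fun x hx y hy => ?_
        show g * y * g⁻¹ ∈ V2 F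
        refine RGD.le_Sup (X := X8 F) (S := RS fun z => z = 2) hx ?_
        have h2 : cj g (X8 F x) = X8 F x := (D8 (F := F) t).rgd.tor x hx.1 g hg
        have h3 : g * y * g⁻¹ ∈ cj g (X8 F x) := conj_mem_cj.2 hy
        rw [h2] at h3
        exact h3
      exact h1 hr
    · refine le_trans (RGD.Sup_mono rootsJ_sub) (Sup_le8 fun b hb hb0 v => ?_)
      refine mem_normalizer_of fun r hr => ?_
      have h1 : V2 F ≤ (V2 F).comap (MulAut.conj (xx b v)).toMonoidHom := by
        refine Sup_le8 fun a ha ha2 u => ?_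
        show xx b v * xx a u * (xx b v)⁻¹ ∈ V2 F
        have h2 := (conj_two hb ha hb0 ha2 (-v) u).1
        rw [xS_inv, _root_.neg_neg] at h2
        rw [xS_inv]
        exact h2
      exact h1 hr
  exact (Subgroup.mem_normalizer_iff.1 (key hg) v).1 hv

include t in
theorem cm_mem {b : ℕ} (hb : b < 240) (hb0 : rt chevE8 b 6 = 0) {v : ↥(chevE8.group F)} (hv : v ∈ V2 F) :
    cm b v ∈ V2 F ∧ (xx b 1)⁻¹ * v * xx b 1 ∈ V2 F := by
  have h1 : (xx b (1 : F))⁻¹ ∈ LJ cs8 hpE8.isCartan (T8 F) (X8 F) J6 := by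
    refine inv_mem ((le_sup_right : _ ≤ LJ cs8 hpE8.isCartan (T8 F) (X8 F) J6) ?_)
    refine RGD.le_Sup (X := X8 F) (S := RootsJ cs8 hpE8.isCartan J6) (z := vec chevE8 8 b) ⟨isRoot8 hb, ?_⟩
      ((mem_X8 hb).2 ⟨1, rfl⟩)
    intro k hk
    have hk1 : k = 6 := by
      by_contra hne
      exact hk (by simp [J6, hne])
    subst hk1
    exact hb0
  have h2 := LJ_conj_V2 t h1 hv
  rw [inv_inv] at h2
  exact ⟨mul_mem (inv_mem hv) h2, h2⟩

include t in
theorem cm_mul {b : ℕ} (hb : b < 240) (hb0 : rt chevE8 b 6 = 0) {v v' : ↥(chevE8.group F)} (hv : v ∈ V2 F)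
    (hv' : v' ∈ V2 F) : cm b (v * v') = cm b v * cm b v' := by
  have h1 := (cm_mem t hb hb0 hv).2
  have h2 := (cm_mem t hb hb0 hv).1
  have h3 : cm b (v * v') = v'⁻¹ * cm b v * ((xx b 1)⁻¹ * v' * xx b 1) := by
    unfold cm; group
  rw [h3, V2_comm (inv_mem hv') h2, mul_assoc]
  rfl

include t in
theorem rn_mem : ∀ (w : List ℕ), (∀ b ∈ w, b < 240 ∧ rt chevE8 b 6 = 0) → ∀ {v : ↥(chevE8.group F)}, v ∈ V2 F →
    rn w v ∈ V2 F
  | [], _, _, hv => hv
  | b :: w, h, v, hv => by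
    rw [rn]
    obtain ⟨h1, h2⟩ := h b List.mem_cons_self
    exact rn_mem w (fun c hc => h c (List.mem_cons_of_mem _ hc)) (cm_mem t h1 h2 hv).1

include t in
theorem rn_mul : ∀ (w : List ℕ), (∀ b ∈ w, b < 240 ∧ rt chevE8 b 6 = 0) → ∀ {v v' : ↥(chevE8.group F)}, v ∈ V2 F →
    v' ∈ V2 F → rn w (v * v') = rn w v * rn w v'
  | [], _, _, _, _, _ => rfl
  | b :: w, h, v, v', hv, hv' => by
    rw [rn, rn, rn]
    obtain ⟨h1, h2⟩ := h b List.mem_cons_self
    rw [cm_mul t h1 h2 hv hv']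
    exact rn_mul w (fun c hc => h c (List.mem_cons_of_mem _ hc)) (cm_mem t h1 h2 hv).1 (cm_mem t h1 h2 hv').1

include t in
theorem rn_prod (w : List ℕ) (hw : ∀ b ∈ w, b < 240 ∧ rt chevE8 b 6 = 0) (L : List ↥(chevE8.group F))
    (hL : ∀ v ∈ L, v ∈ V2 F) : rn w L.prod = (L.map (rn w)).prod := by
  induction L with
  | nil => exact rn_one w
  | cons v L ih =>
    rw [List.prod_cons, List.map_cons, List.prod_cons, rn_mul t w hw (hL v List.mem_cons_self)
      ((V2 F).list_prod_mem fun x hx => hL x (List.mem_cons_of_mem _ hx)), ih fun x hx => hL x (List.mem_cons_of_mem _ hx)]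

omit [Fintype F] in
/-- the commutator map on a root element -/
theorem cm_xx {b a : ℕ} (hb : b < 240) (ha : a < 240) (hb0 : rt chevE8 b 6 = 0) (ha2 : rt chevE8 a 6 = 2) (u : F) :
    (chevE8.commTerms b a = [] → cm b (xx a u) = 1) ∧
    ∀ l, st b a = some l → l < 240 ∧ rt chevE8 l 6 = 2 ∧ (cm b (xx a u) = xx l u ∨ cm b (xx a u) = xx l (-u)) := by
  have h1 : a ≠ b := by
    intro h
    rw [h, hb0] at ha2
    exact absurd ha2 (by norm_num)
  have h2 : a ≠ chevE8.neg b := by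
    intro h
    rw [h, neg_lev hb, hb0] at ha2
    exact absurd ha2 (by norm_num)
  constructor
  · intro h
    have h3 := xx_comm_nil hb ha h1 h2 h (1 : F) u
    have h4 : (xx b (1 : F))⁻¹ * xx a u * xx b 1 = xx a u := by
      rw [mul_assoc, h3]; group
    unfold cm
    rw [h4, inv_mul_cancel]
  · intro l hl
    obtain ⟨c, hc, h⟩ := st_eq hl
    obtain ⟨hl240, hlr⟩ := term_rt h
    have h3 := xx_comm_one hb ha h1 h2 h (1 : F) u
    have h4 : cm b (xx a u) = xx l (-(c : F) * 1 * u) := by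
      unfold cm
      rw [mul_assoc (xx b (1 : F))⁻¹, h3]; group
    refine ⟨hl240, by rw [hlr, hb0, ha2]; rfl, ?_⟩
    rcases hc with rfl | rfl
    · right; rw [h4]; simp
    · left; rw [h4]; simp

omit [Fintype F] in
theorem rn_xx (w : List ℕ) : (∀ b ∈ w, b < 240 ∧ rt chevE8 b 6 = 0) → ∀ {a : ℕ}, a < 240 → rt chevE8 a 6 = 2 →
    okF em st w a = true → ∀ u : F, (runF st w a = none → rn w (xx a u) = 1) ∧
      ∀ l, runF st w a = some l → rn w (xx a u) = xx l u ∨ rn w (xx a u) = xx l (-u) := by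
  induction w with
  | nil =>
    intro _ a _ _ _ u
    refine ⟨fun h => ?_, fun l h => ?_⟩
    · rw [runF_nil] at h
      exact absurd h (Option.some_ne_none a)
    · rw [runF_nil] at h
      rw [Option.some.inj h]
      exact Or.inl rfl
  | cons b w ihw =>
    intro hw a ha ha2 hok u
    obtain ⟨hb, hb0⟩ := hw b List.mem_cons_self
    obtain ⟨k1, k2⟩ := cm_xx hb ha hb0 ha2 u
    rw [rn]
    cases hst : st b a with
    | none =>
      rw [k1 (em_nil (okF_none hst hok)), rn_one, runF_none hst]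
      exact ⟨fun _ => rfl, fun l h => absurd h.symm (Option.some_ne_none l)⟩
    | some c =>
      obtain ⟨hc, hc2, h3⟩ := k2 c hst
      have ih := fun u : F => ihw (fun c hc => hw c (List.mem_cons_of_mem _ hc)) hc hc2 (okF_some hst hok) u
      rw [runF_some hst]
      rcases h3 with h3 | h3 <;> rw [h3]
      · exact ih u
      · refine ⟨(ih (-u)).1, fun l hl => ?_⟩
        have h4 := (ih (-u)).2 l hl
        rw [_root_.neg_neg] at h4
        exact h4.symm

/-! ### Coordinates -/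

omit [Fintype F] in
theorem prod_add (L : List ℕ) (hL : ∀ a ∈ L, a < 240 ∧ rt chevE8 a 6 = 2) (w w' : ℕ → F) :
    (L.map fun a => xx a (w a + w' a)).prod = (L.map fun a => xx a (w a)).prod * (L.map fun a => xx a (w' a)).prod := by
  induction L with
  | nil => simp
  | cons a L ih =>
    have hL' : ∀ a ∈ L, a < 240 ∧ rt chevE8 a 6 = 2 := fun b hb => hL b (List.mem_cons_of_mem _ hb)
    obtain ⟨ha, ha2⟩ := hL a List.mem_cons_self
    rw [List.map_cons, List.prod_cons, List.map_cons, List.prod_cons, List.map_cons, List.prod_cons, ih hL',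
      show xx a (w a + w' a) = xx a (w a) * xx a (w' a) from (xS_mul hpE8.inList a (w a) (w' a)).symm]
    have h1 : (L.map fun a => xx a (w a)).prod ∈ V2 F := by
      refine (V2 F).list_prod_mem fun y hy => ?_
      obtain ⟨b, hb, rfl⟩ := List.mem_map.1 hy
      exact xx_mem_Sup (P := fun z => z = 2) (hL' b hb).1 (hL' b hb).2 _
    have h2 : xx a (w' a) ∈ V2 F := xx_mem_Sup (P := fun z => z = 2) ha ha2 _
    calc xx a (w a) * xx a (w' a) * ((L.map fun a => xx a (w a)).prod * (L.map fun a => xx a (w' a)).prod)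
        = xx a (w a) * (xx a (w' a) * (L.map fun a => xx a (w a)).prod) * (L.map fun a => xx a (w' a)).prod := by group
      _ = _ := by rw [V2_comm h2 h1]; group

theorem L2_spec {a : ℕ} (ha : a ∈ L2) : a < 240 ∧ rt chevE8 a 6 = 2 := by
  have := List.all_eq_true.1 L2_lev a ha
  rwa [Bool.and_eq_true, decide_eq_true_eq, decide_eq_true_eq] at this

theorem mem_L2_of {a : ℕ} (ha : a < 240) (h : rt chevE8 a 6 = 2) : a ∈ L2 := by
  have := List.all_eq_true.1 mem_L2 a (List.mem_range.2 ha)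
  rw [decide_eq_true_eq] at this
  exact this h

variable (F) in
omit [Fintype F] in
/-- the subgroup of the products of root elements of level two -/
def PV : Subgroup ↥(chevE8.group F) where
  carrier := {v | ∃ w : ℕ → F, v = (L2.map fun a => xx a (w a)).prod}
  mul_mem' := by
    rintro _ _ ⟨w, rfl⟩ ⟨w', rfl⟩
    exact ⟨fun a => w a + w' a, (prod_add L2 (fun a ha => L2_spec ha) w w').symm⟩
  one_mem' := by
    refine ⟨fun _ => 0, ?_⟩
    symm
    apply List.prod_eq_one
    intro y hy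
    obtain ⟨b, hb, rfl⟩ := List.mem_map.1 hy
    exact xS_zero _ _
  inv_mem' := by
    rintro _ ⟨w, rfl⟩
    refine ⟨fun a => - w a, ?_⟩
    rw [inv_eq_iff_mul_eq_one, ← prod_add L2 (fun a ha => L2_spec ha)]
    apply List.prod_eq_one
    intro y hy
    obtain ⟨b, hb, rfl⟩ := List.mem_map.1 hy
    rw [add_neg_cancel]
    exact xS_zero _ _

omit [Fintype F] in
theorem exists_coord {v : ↥(chevE8.group F)} (hv : v ∈ V2 F) : ∃ w : ℕ → F, v = (L2.map fun a => xx a (w a)).prod := by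
  classical
  have h1 : V2 F ≤ PV F := by
    refine Sup_le8 fun r hr h u => ?_
    refine ⟨fun a => if a = r then u else 0, ?_⟩
    rw [prod_single (fun a => xx a (if a = r then u else 0)) r L2 L2_nodup (mem_L2_of hr h)]
    · rw [if_pos rfl]
    · intro b _ hbr
      rw [if_neg hbr]
      exact xS_zero _ _
  exact h1 hv

/-! ### Normal subgroups of the group of even level -/

omit [Fintype F] in
theorem xx_mem_ME {r : ℕ} (hr : r < 240) (h : rt chevE8 r 6 % 2 = 0) (u : F) : xx r u ∈ ME F :=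
  (le_sup_right : _ ≤ ME F) (xx_mem_Sup (P := fun z => z % 2 = 0) hr h u)

section Norm

variable {N : Subgroup ↥(chevE8.group F)} (hN : ∀ g ∈ ME F, ∀ n ∈ N, g * n * g⁻¹ ∈ N)

include hN

omit [Fintype F] in
theorem rn_mem_N (w : List ℕ) : (∀ b ∈ w, b < 240 ∧ rt chevE8 b 6 = 0) → ∀ {v : ↥(chevE8.group F)}, v ∈ N →
    rn w v ∈ N := by
  induction w with
  | nil => exact fun _ v hv => hv
  | cons b w ih =>
    intro h v hv
    rw [rn]
    obtain ⟨h1, h2⟩ := h b List.mem_cons_self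
    refine ih (fun c hc => h c (List.mem_cons_of_mem _ hc)) ?_
    have h3 := hN (xx b (1 : F))⁻¹ (inv_mem (xx_mem_ME h1 (by rw [h2]; rfl) 1)) v hv
    rw [inv_inv] at h3
    exact mul_mem (inv_mem hv) h3

include t in
/-- an element of the highest root group of level two -/
theorem exists_single {v : ↥(chevE8.group F)} (hv : v ∈ V2 F) (hvN : v ∈ N) (hv1 : v ≠ 1) :
    ∃ u : F, u ≠ 0 ∧ xx 237 u ∈ N := by
  classical
  obtain ⟨w, hw⟩ := exists_coord hv
  obtain ⟨a, ha, hwa⟩ : ∃ a ∈ L2, w a ≠ 0 := by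
    by_contra hcon
    push Not at hcon
    apply hv1
    rw [hw]
    apply List.prod_eq_one
    intro y hy
    obtain ⟨b, hb, rfl⟩ := List.mem_map.1 hy
    rw [hcon b hb]
    exact xS_zero _ _
  obtain ⟨⟨a', ws⟩, hp, hpa⟩ := List.any_eq_true.1 (List.all_eq_true.1 wds_cov a ha)
  obtain rfl : a' = a := by simpa using hpa
  have hlev : ∀ b ∈ ws, b < 240 ∧ rt chevE8 b 6 = 0 := by
    intro b hb
    have h1 := List.all_eq_true.1 (List.all_eq_true.1 wds_lev _ hp) b hb
    rwa [Bool.and_eq_true, decide_eq_true_eq, decide_eq_true_eq] at h1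
  have hok : ∀ c ∈ L2, okF em st ws c = true ∧ runF st ws c = if c == a' then some 237 else none := by
    intro c hc
    have h1 := List.all_eq_true.1 (List.all_eq_true.1 wds_ok _ hp) c hc
    rw [Bool.and_eq_true, beq_iff_eq] at h1
    exact h1
  have h1 := rn_mem_N hN ws hlev hvN
  rw [hw, rn_prod t ws hlev _ (fun y hy => by
    obtain ⟨b, hb, rfl⟩ := List.mem_map.1 hy
    exact xx_mem_Sup (P := fun z => z = 2) (L2_spec hb).1 (L2_spec hb).2 _), List.map_map] at h1
  rw [prod_single _ a' L2 L2_nodup ha (fun b hb hba => by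
    obtain ⟨h2, h3⟩ := hok b hb
    have h4 : (b == a') = false := by simpa using hba
    rw [h4] at h3
    exact (rn_xx ws hlev (L2_spec hb).1 (L2_spec hb).2 h2 (w b)).1 h3)] at h1
  obtain ⟨h2, h3⟩ := hok a' ha
  rw [beq_self_eq_true] at h3
  rcases (rn_xx ws hlev (L2_spec ha).1 (L2_spec ha).2 h2 (w a')).2 237 h3 with h4 | h4
  · exact ⟨w a', hwa, by rw [← h4]; exact h1⟩
  · exact ⟨- w a', neg_ne_zero.2 hwa, by rw [← h4]; exact h1⟩

omit [Fintype F] in
/-- **a normal subgroup of the group of even level containing an element of level two contains all root groups of even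
level** -/
theorem all_mem {u : F} (hu : u ≠ 0) (h : xx 237 u ∈ N) : ∀ r < 240, rt chevE8 r 6 % 2 = 0 →
    2 * rt chevE8 r 7 = rt chevE8 r 6 → ∀ v : F, xx r v ∈ N := by
  have key : ∀ r < 240, ev r = true → ∀ v : F, xx r v ∈ N := by
    refine chkF_all (f := st) (ev := ev) (ng := chevE8.neg) (fun r => ∀ v : F, xx r v ∈ N) ?_ spr [123] ?_ spr_ok
    · intro r b l hr hr1 hb1 hevb hbr hbn hst v
      obtain ⟨c, hc, hct⟩ := st_eq hst
      have hbe : rt chevE8 b 6 % 2 = 0 := by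
        unfold ev at hevb
        rw [Bool.and_eq_true, decide_eq_true_eq, decide_eq_true_eq] at hevb
        exact hevb.1
      have h1 := xx_comm_one hr1 hb1 hbr hbn hct (-(c : F) * v) 1
      have h2 : -(c : F) * (-(c : F) * v) * 1 = v := by
        rcases hc with rfl | rfl <;> push_cast <;> ring
      rw [h2] at h1
      have h3 : xx l v = ((xx b 1)⁻¹ * (xx r (-(c : F) * v))⁻¹ * xx b 1) * xx r (-(c : F) * v) := by
        have h4 : xx l v = (xx r (-(c : F) * v) * xx b 1)⁻¹ * (xx b 1 * xx r (-(c : F) * v)) := by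
          rw [h1]; group
        rw [h4]; group
      rw [h3]
      have h5 := hN (xx b (1 : F))⁻¹ (inv_mem (xx_mem_ME hb1 hbe 1)) _ (inv_mem (hr (-(c : F) * v)))
      rw [inv_inv] at h5
      exact mul_mem h5 (hr _)
    · intro r hr v
      rw [List.mem_singleton] at hr
      subst hr
      obtain ⟨c, hc, hct⟩ := st_eq st_first
      have h8 : rt chevE8 3 6 % 2 = 0 := by decide +kernel
      have h1 := xx_comm_one (F := F) (by norm_num) (by norm_num) (by norm_num) (by decide +kernel) hct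
        (-(c : F) * v * u⁻¹) u
      have h2 : -(c : F) * (-(c : F) * v * u⁻¹) * u = v := by
        have hc2 : (c : F) * (c : F) = 1 := by
          rcases hc with rfl | rfl <;> simp
        calc -(c : F) * (-(c : F) * v * u⁻¹) * u = ((c : F) * (c : F)) * v * (u⁻¹ * u) := by ring
          _ = v := by rw [hc2, inv_mul_cancel₀ hu]; ring
      rw [h2] at h1
      have h3 : xx 123 v = (xx 237 u)⁻¹ * ((xx 3 (-(c : F) * v * u⁻¹))⁻¹ * xx 237 u * xx 3 (-(c : F) * v * u⁻¹)) := by
        have h4 : xx 123 v = (xx 3 (-(c : F) * v * u⁻¹) * xx 237 u)⁻¹ * (xx 237 u * xx 3 (-(c : F) * v * u⁻¹)) := by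
          rw [h1]; group
        rw [h4]; group
      rw [h3]
      have h5 := hN (xx 3 (-(c : F) * v * u⁻¹))⁻¹ (inv_mem (xx_mem_ME (by norm_num) h8 _)) _ h
      rw [inv_inv] at h5
      exact mul_mem (inv_mem h) h5
  intro r hr he he' v
  exact key r hr (by unfold ev; rw [decide_eq_true he, decide_eq_true he']; rfl) v

end Norm

/-! ### The group of even level is proper -/

variable (F) in
omit [Fintype F] in
/-- the span of the root vectors of odd level -/
def LO : Submodule F (chevE8.Idx → F) where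
  carrier := {v | ∀ i, (∀ r : Fin chevE8.nroots, i = Sum.inr r → rt chevE8 r 6 % 2 = 0) → v i = 0}
  add_mem' := fun {a b} ha hb i hi => by rw [Pi.add_apply, ha i hi, hb i hi, add_zero]
  zero_mem' := fun i _ => rfl
  smul_mem' := fun c v hv i hi => by rw [Pi.smul_apply, hv i hi, smul_zero]

open Cfsg.Agent.ChevalleyStructure.XColumns in
omit [Fintype F] in
theorem ev_mem_LO {s : ℕ} (hs : rt chevE8 s 6 % 2 ≠ 0) : XColumns.ev chevE8 F s ∈ LO F := by
  intro i hi
  rcases i with i | r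
  · rfl
  · rw [ev_inr, if_neg]
    intro h
    exact hs (h ▸ hi r rfl)

open Cfsg.Agent.ChevalleyStructure.XColumns in
omit [Fintype F] in
/-- the even root elements stabilise the odd part -/
theorem xx_stab {r : ℕ} (hr : r < 240) (he : rt chevE8 r 6 % 2 = 0) (u : F) {v : chevE8.Idx → F} (hv : v ∈ LO F) :
    (chevE8.x F r u).mulVec v ∈ LO F := by
  classical
  -- `v` is a combination of root vectors of odd level
  have h1 : v = ∑ s : Fin chevE8.nroots, v (Sum.inr s) • XColumns.ev chevE8 F s := by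
    funext i
    rw [Finset.sum_apply]
    rcases i with i | s
    · rw [hv (Sum.inl i) (fun r h => by simp at h)]
      symm
      apply Finset.sum_eq_zero
      intro s _
      rw [Pi.smul_apply, ev_inl, smul_zero]
    · rw [Finset.sum_eq_single s]
      · rw [Pi.smul_apply, ev_inr, if_pos rfl, smul_eq_mul, mul_one]
      · intro b _ hb
        rw [Pi.smul_apply, ev_inr, if_neg (fun h => hb (Fin.ext h).symm), smul_zero]
      · intro h; exact absurd (Finset.mem_univ s) h
  rw [h1, Matrix.mulVec_sum]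
  refine Submodule.sum_mem _ fun s _ => ?_
  rw [Matrix.mulVec_smul]
  by_cases hs : rt chevE8 s 6 % 2 = 0
  · have h2 : v (Sum.inr s) = 0 := hv (Sum.inr s) (fun r h => by
      obtain rfl := Sum.inr.inj h
      exact hs)
    rw [h2, zero_smul]
    exact Submodule.zero_mem _
  · refine Submodule.smul_mem _ _ ?_
    have hsr : (s : ℕ) ≠ r := fun h => hs (h ▸ he)
    have hsn : (s : ℕ) ≠ chevE8.neg r := by
      intro h
      apply hs
      rw [h, neg_lev hr]
      omega
    rw [x_mulVec_ev (lt_n hr) s.2 hsr hsn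
      (Cfsg.Agent.ChevalleyStructure.NConjSharp.nodup_row (Cfsg.Agent.ChevalleyStructure.Good.goodAt_of_mem chevE8 hpE8.inList r (lt_n hr))) u]
    refine Submodule.add_mem _ (ev_mem_LO hs) ?_
    refine list_sum_mem fun y hy => ?_
    obtain ⟨q, hq, rfl⟩ := List.mem_map.1 hy
    refine Submodule.smul_mem _ _ (ev_mem_LO ?_)
    have h3 := List.mem_zipIdx_iff_getElem?.1 hq
    have h4 := (chainEntry_get chk8 (r := r) (s := s) (k := q.2) (q := q.1) h3).2.2.2 6
    rw [h4]
    intro h5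
    apply hs
    have h6 : (2 : ℤ) ∣ rt chevE8 r 6 := Int.dvd_of_emod_eq_zero he
    obtain ⟨m, hm⟩ := h6
    rw [hm] at h5
    have h7 : rt chevE8 s 6 + ((q.2 + 1 : ℕ) : ℤ) * (2 * m) = rt chevE8 s 6 + 2 * (((q.2 + 1 : ℕ) : ℤ) * m) := by ring
    rw [h7, Int.add_mul_emod_self_left] at h5
    exact h5

variable (F) in
omit [Fintype F] in
/-- the stabiliser of the odd part -/
def StO : Subgroup ↥(chevE8.group F) where
  carrier := {g | (∀ v ∈ LO F, ((g : GL chevE8.Idx F) : Matrix chevE8.Idx chevE8.Idx F).mulVec v ∈ LO F) ∧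
    ∀ v ∈ LO F, ((g⁻¹ : ↥(chevE8.group F)) : GL chevE8.Idx F).val.mulVec v ∈ LO F}
  mul_mem' := by
    rintro a b ⟨ha, ha'⟩ ⟨hb, hb'⟩
    refine ⟨fun v hv => ?_, fun v hv => ?_⟩
    · rw [Subgroup.coe_mul, Units.val_mul, ← Matrix.mulVec_mulVec]
      exact ha _ (hb v hv)
    · rw [mul_inv_rev, Subgroup.coe_mul, Units.val_mul, ← Matrix.mulVec_mulVec]
      exact hb' _ (ha' v hv)
  one_mem' := by
    refine ⟨fun v hv => ?_, fun v hv => ?_⟩
    · rw [Subgroup.coe_one, Units.val_one, Matrix.one_mulVec]; exact hv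
    · rw [inv_one, Subgroup.coe_one, Units.val_one, Matrix.one_mulVec]; exact hv
  inv_mem' := by
    rintro a ⟨ha, ha'⟩
    exact ⟨ha', fun v hv => by rw [inv_inv]; exact ha v hv⟩

omit [Fintype F] in
theorem diag_stab {g : ↥(chevE8.group F)} (hg : g ∈ T8 F) {v : chevE8.Idx → F} (hv : v ∈ LO F) :
    ((g : GL chevE8.Idx F) : Matrix chevE8.Idx chevE8.Idx F).mulVec v ∈ LO F := by
  obtain ⟨χ, hχ⟩ := HMatDiagAll.mem_torus.1 (HMatDiagAll.diagonalSubgroup_le_torus hpE8.inList hg)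
  have hχ' : ((g : GL chevE8.Idx F) : Matrix chevE8.Idx chevE8.Idx F) =
      Matrix.diagonal (Sum.elim (fun _ => (1 : F)) χ) := hχ
  intro i hi
  rw [hχ', Matrix.mulVec_diagonal, hv i hi, mul_zero]

omit [Fintype F] in
theorem ME_le_StO : ME F ≤ StO F := by
  refine sup_le ?_ (Sup_le8 fun r hr he u => ?_)
  · intro g hg
    exact ⟨fun v hv => diag_stab hg hv, fun v hv => diag_stab (inv_mem hg) hv⟩
  · refine ⟨fun v hv => xx_stab hr he u hv, fun v hv => ?_⟩
    rw [xS_inv]
    exact xx_stab hr he (-u) hv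

open Cfsg.Agent.ChevalleyStructure.XColumns in
omit [Fintype F] in
theorem ME_ne_top : ME F ≠ ⊤ := by
  intro h
  have h1 : xx (chevE8.simple 6) (1 : F) ∈ StO F := ME_le_StO (by rw [h]; trivial)
  have hs : chevE8.simple 6 < 240 := by decide +kernel
  have hn : chevE8.neg (chevE8.simple 6) < 240 := by decide +kernel
  have hne : chevE8.neg (chevE8.simple 6) ≠ chevE8.simple 6 := by decide +kernel
  have hr : rt chevE8 (chevE8.neg (chevE8.simple 6)) 6 % 2 ≠ 0 := by decide +kernel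
  have h2 := h1.1 (XColumns.ev chevE8 F (chevE8.neg (chevE8.simple 6))) (ev_mem_LO hr)
  have h3 : (((xx (chevE8.simple 6) (1 : F) : ↥(chevE8.group F)) : GL chevE8.Idx F) : Matrix chevE8.Idx chevE8.Idx F) =
      chevE8.x F (chevE8.simple 6) 1 := rfl
  rw [h3, x_mulVec_ev_neg (lt_n hs) (lt_n hn) hne] at h2
  have h1r : (6 : ℕ) < chevE8.rank := by decide +kernel
  have h4 := h2 (Sum.inl ⟨6, h1r⟩) (fun r h => absurd h Sum.inl_ne_inr)
  have h5 : (((chevE8.coroot.getD (chevE8.simple 6) #[]).getD 6 0 : ℤ) : F) = 1 := by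
    rw [cor_ok, Int.cast_one]
  rw [Pi.sub_apply, Pi.add_apply, Pi.smul_apply, Pi.smul_apply, ev_inl, ev_inl, corv_inl, h5] at h4
  simp at h4

/-- the nodes of the residue `E₇` -/
abbrev J7 : Set (Fin 8) := ((Finset.univ.erase 7 : Finset (Fin 8)) : Set (Fin 8))

theorem even_w1 {x : Fin 8 → ℤ} (hx : x ∈ RootsJ cs8 hpE8.isCartan J7) :
    IsRoot cs8 hpE8.isCartan (rep cs8 hpE8.isCartan (cs8.wordProd w1) x) ∧
      (rep cs8 hpE8.isCartan (cs8.wordProd w1) x) 6 % 2 = 0 ∧
      2 * (rep cs8 hpE8.isCartan (cs8.wordProd w1) x) 7 = (rep cs8 hpE8.isCartan (cs8.wordProd w1) x) 6 := by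
  obtain ⟨hx1, hx0⟩ := hx
  have h0 : x 7 = 0 := hx0 7 (by simp [J7])
  have h1 : x = ∑ i, x i • sr i := by
    funext j
    rw [Finset.sum_apply, Finset.sum_eq_single j]
    · rw [Pi.smul_apply, sr_self, smul_eq_mul, mul_one]
    · intro b _ hb
      rw [Pi.smul_apply, sr_ne (Ne.symm hb), smul_zero]
    · intro h; exact absurd (Finset.mem_univ j) h
  have h2 : ∀ k, (rep cs8 hpE8.isCartan (cs8.wordProd w1) x) k =
      ∑ i, x i * (rep cs8 hpE8.isCartan (cs8.wordProd w1) (sr i)) k := by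
    intro k
    conv_lhs => rw [h1]
    rw [map_sum, Finset.sum_apply]
    refine Finset.sum_congr rfl fun i _ => ?_
    rw [map_smul, Pi.smul_apply, smul_eq_mul]
  have hval : ∀ i : Fin 8, i ≠ 7 → (rep cs8 hpE8.isCartan (cs8.wordProd w1) (sr i)) 6 % 2 = 0 ∧
      2 * (rep cs8 hpE8.isCartan (cs8.wordProd w1) (sr i)) 7 = (rep cs8 hpE8.isCartan (cs8.wordProd w1) (sr i)) 6 := by
    intro i hi
    have hi' : (chevE8.simple i) < 240 := by
      rw [← nroots_E8]; exact NPerm.simple_lt hpE8.inList (lt_rank hpE8 i)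
    rw [← vec_simple hpE8 i, (rep_act w1 hi').2, vec_apply, vec_apply]
    have h3 := List.all_eq_true.1 w1_ok i (List.mem_range.2 i.2)
    rw [Bool.or_eq_true, Bool.and_eq_true, decide_eq_true_eq, decide_eq_true_eq, decide_eq_true_eq] at h3
    rcases h3 with h3 | h3
    · exact absurd (Fin.ext h3) hi
    · exact h3
  have g1 : (rep cs8 hpE8.isCartan (cs8.wordProd w1) x) 6 % 2 = 0 := by
    rw [h2 6]
    apply Int.emod_eq_zero_of_dvd
    refine Finset.dvd_sum fun i _ => ?_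
    by_cases hi : i = 7
    · rw [hi, h0, zero_mul]
      exact dvd_zero _
    · exact Dvd.dvd.mul_left (Int.dvd_of_emod_eq_zero (hval i hi).1) _
  have g2 : 2 * (rep cs8 hpE8.isCartan (cs8.wordProd w1) x) 7 = (rep cs8 hpE8.isCartan (cs8.wordProd w1) x) 6 := by
    rw [h2 7, h2 6, Finset.mul_sum]
    refine Finset.sum_congr rfl fun i _ => ?_
    by_cases hi : i = 7
    · rw [hi, h0, zero_mul, zero_mul, mul_zero]
    · rw [← (hval i hi).2]; ring
  exact ⟨hx1.act _, g1, g2⟩

/-! ### The order of the group of type `E₇` -/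

section Dvd

variable {s : ℕ} (hs : s.Prime) (hst : s ≠ t)
  (he : orderOf ((Fintype.card F : ℕ) : ZMod s) = 10)

include hs hst he in
/-- `s` divides the order of the subgroup generated by the root groups of type `E₇` -/
theorem dvd_E7 : s ∣ Nat.card ↥(RGD.Sup (X8 F) (RootsJ cs8 hpE8.isCartan J7)) := by
  have := (D8 (F := F) t).fin
  have h1 : s ∣ Nat.card ((D8 (F := F) t).par (Finset.univ.erase 7)) := by
    have h2 := (Cfsg.Agent.H470.PiRad.TabE8.rel_123456_6 (D8 (F := F) t))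
    have h3 : s ∣ ((D8 (F := F) t).par {1, 2, 3, 4, 5}).relIndex ((D8 (F := F) t).par {1, 2, 3, 4, 5, 6}) := by
      rw [h2]
      exact Dvd.dvd.mul_right (Cfsg.Agent.H470.PiRad.Num.c10 hs he) _
    refine (h3.trans (Subgroup.relIndex_dvd_card _ _)).trans (Subgroup.card_dvd_of_le ?_)
    exact parabolic_mono _ (Set.image_mono (Finset.coe_subset.2 (by decide)))
  have h2 : (D8 (F := F) t).par (Finset.univ.erase 7) = PJ cs8 hpE8.isCartan (T8 F) (X8 F) J7 :=
    par_eq (D8 (F := F) t).rgd (D8 (F := F) t).hgen (D8 (F := F) t).gg J7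
  have h3 : PJ cs8 hpE8.isCartan (T8 F) (X8 F) J7 = VJ cs8 hpE8.isCartan (X8 F) J7 ⊔ LJ cs8 hpE8.isCartan (T8 F) (X8 F) J7 :=
    sup_comm _ _
  rw [h2, h3] at h1
  have h4 := h1.trans (card_sup_dvd' (U := VJ cs8 hpE8.isCartan (X8 F) J7)
    (LJ_le_normalizer_VJ (R := (D8 (F := F) t).rgd) J7))
  rcases hs.dvd_mul.1 h4 with h5 | h5
  · exact absurd h5 (not_dvd_VJ t hs hst J7)
  · have h6 : LJ cs8 hpE8.isCartan (T8 F) (X8 F) J7 = RGD.Sup (X8 F) (RootsJ cs8 hpE8.isCartan J7) ⊔ T8 F := sup_comm _ _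
    rw [h6] at h5
    have h7 := h5.trans (card_sup_dvd' (U := RGD.Sup (X8 F) (RootsJ cs8 hpE8.isCartan J7)) (N := T8 F) (by
      intro g hg
      refine mem_normalizer_of fun r hr => ?_
      have h8 : RGD.Sup (X8 F) (RootsJ cs8 hpE8.isCartan J7) ≤
          (RGD.Sup (X8 F) (RootsJ cs8 hpE8.isCartan J7)).comap (MulAut.conj g).toMonoidHom := by
        refine RGD.Sup_le fun x hx y hy => ?_
        show g * y * g⁻¹ ∈ RGD.Sup (X8 F) (RootsJ cs8 hpE8.isCartan J7)
        refine RGD.le_Sup (X := X8 F) (S := RootsJ cs8 hpE8.isCartan J7) hx ?_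
        have h2 : cj g (X8 F x) = X8 F x := (D8 (F := F) t).rgd.tor x hx.1 g hg
        have h3 : g * y * g⁻¹ ∈ cj g (X8 F x) := conj_mem_cj.2 hy
        rw [h2] at h3
        exact h3
      exact h8 hr))
    rcases hs.dvd_mul.1 h7 with h8 | h8
    · exact h8
    · exact absurd h8 (not_dvd_T8 hs (Or.inl he))

include hs hst he in
/-- `s` divides the order of a subgroup containing all root groups of even level -/
theorem dvd_of_all {N : Subgroup ↥(chevE8.group F)} (h : ∀ r < 240, rt chevE8 r 6 % 2 = 0 → 2 * rt chevE8 r 7 = rt chevE8 r 6 →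
    ∀ v : F, xx r v ∈ N) :
    s ∣ Nat.card N := by
  have := (D8 (F := F) t).fin
  obtain ⟨k, hk⟩ := exists_rp cs8 (D8 (F := F) t).rgd.nsys (cs8.wordProd w1)
  have h1 := dvd_E7 t hs hst he
  have h2 : (RGD.Sup (X8 F) (RootsJ cs8 hpE8.isCartan J7)).map (MulAut.conj k).toMonoidHom ≤ N := by
    rw [Subgroup.map_le_iff_le_comap]
    refine RGD.Sup_le fun x hx y hy => ?_
    show k * y * k⁻¹ ∈ N
    have h3 := (D8 (F := F) t).rgd.conj_mem hk hx.1 hy
    obtain ⟨h4, h5, h5'⟩ := even_w1 hx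
    obtain ⟨r, hr, hrx⟩ := root8 h4
    rw [← hrx] at h3 h5 h5'
    obtain ⟨u, hu⟩ := (mem_X8 hr).1 h3
    rw [hu]
    exact h r hr h5 h5' u
  have h3 := Subgroup.card_dvd_of_le h2
  rw [Subgroup.card_map_of_injective (MulAut.conj k).injective] at h3
  exact h1.trans h3

end Dvd

/-- **the residue `E₆ × A₁`**, inner automorphisms -/
theorem left_inner {g : ↥(chevE8.group F)} {s p : ℕ} (hs : s.Prime) (hst : s ≠ t)
    (he : orderOf ((Fintype.card F : ℕ) : ZMod s) = 10)
    (hp : p.Prime) (hpt : p ≠ t) (hps : p ≠ s) (hg : orderOf g = p) (hPC : PC s (MulAut.conj g))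
    (hF : (D8 (F := F) t).F (MulAut.conj g) (Finset.univ.erase 6)) :
    (D8 (F := F) t).F (MulAut.conj g) (Finset.univ.erase 7) := by
  classical
  have := (D8 (F := F) t).fin
  obtain ⟨k0, hk0⟩ := mem_of_F t hF
  have h2 : (D8 (F := F) t).par (Finset.univ.erase 6) = PJ cs8 hpE8.isCartan (T8 F) (X8 F) J6 :=
    par_eq (D8 (F := F) t).rgd (D8 (F := F) t).hgen (D8 (F := F) t).gg J6
  rw [h2, mem_PJ (R := (D8 (F := F) t).rgd)] at hk0
  obtain ⟨l, hl, v, hv, hlv⟩ := hk0
  have ho0 : orderOf (k0 * g * k0⁻¹) = p := by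
    rw [← MulAut.conj_apply, ← hg]
    exact orderOf_injective (MulAut.conj k0).toMonoidHom (MulAut.conj k0).injective g
  have hpV : ¬ p ∣ Nat.card (VJ cs8 hpE8.isCartan (X8 F) J6) := not_dvd_VJ t hp hpt J6
  obtain ⟨k1, hk1⟩ := exists_conj_mem (LJ_le_normalizer_VJ (R := (D8 (F := F) t).rgd) J6) hp hpV hl hv hlv ho0
  set g1 : ↥(chevE8.group F) := k1 * (k0 * g * k0⁻¹) * k1⁻¹ with hg1
  have hg1' : g1 = (k1 * k0) * g * (k1 * k0)⁻¹ := by rw [hg1]; group
  have ho1 : orderOf g1 = p := by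
    rw [hg1', ← MulAut.conj_apply, ← hg]
    exact orderOf_injective (MulAut.conj (k1 * k0)).toMonoidHom (MulAut.conj (k1 * k0)).injective g
  have hPC1 : PC s (MulAut.conj g1) := by
    rw [hg1', ← cj_conj]
    exact hPC.conj _
  -- `g1` lies in the core of the group of even level
  have hcore : g1 ∈ coreIn s (ME F) := hPC1.mem_coreIn hp hps hs ho1 ME_ne_top (LJ_le_ME hk1)
  set N := coreIn s (ME F) with hNdef
  have hN : ∀ g ∈ ME F, ∀ n ∈ N, g * n * g⁻¹ ∈ N := fun g hg n hn => coreIn_conj_mem hg hn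
  -- `g1` centralises the root groups of level two
  have hcent : ∀ v ∈ V2 F, g1 * v * g1⁻¹ = v := by
    intro v hv
    by_contra hne
    have h3 : g1 * v * g1⁻¹ * v⁻¹ ∈ V2 F := mul_mem (LJ_conj_V2 t hk1 hv) (inv_mem hv)
    have h4 : g1 * v * g1⁻¹ * v⁻¹ ∈ N := by
      have h5 : g1 * v * g1⁻¹ * v⁻¹ = g1 * (v * g1⁻¹ * v⁻¹) := by group
      rw [h5]
      exact mul_mem hcore (hN v (V2_le_ME hv) _ (inv_mem hcore))
    obtain ⟨u, hu0, hu⟩ := exists_single t hN h3 h4 (fun h => hne (mul_inv_eq_one.1 h))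
    have h5 := dvd_of_all t hs hst he (all_mem hN hu0 hu)
    exact hs.one_lt.ne' (Nat.Coprime.eq_one_of_dvd (coreIn_coprime (ME F)).symm h5)
  -- move the root group to the highest one
  obtain ⟨k2, hk2⟩ := exists_rp cs8 (D8 (F := F) t).rgd.nsys (cs8.wordProd w2)
  refine F_of_mem t (k := k2 * k1 * k0) (normalizer_le t ?_)
  have h6 : k2 * k1 * k0 * g * (k2 * k1 * k0)⁻¹ = k2 * g1 * k2⁻¹ := by rw [hg1']; group
  rw [h6]
  refine mem_normalizer_of fun y hy => ?_
  have h7 : k2⁻¹ * y * k2 ∈ X8 F (vec chevE8 8 237) := by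
    have h8 := (D8 (F := F) t).rgd.conj_mem' hk2 (isRoot8 (r := 239) (by norm_num)) hy
    have h9 := (rep_act w2 (r := 237) (by norm_num)).2
    rw [w2_ok] at h9
    rwa [← h9, rep_inv_apply] at h8
  have h8 : k2⁻¹ * y * k2 ∈ V2 F := RGD.le_Sup (X := X8 F) (S := RS fun z => z = 2)
    ⟨isRoot8 (by norm_num), (L2_spec (a := 237) (by decide)).2⟩ h7
  have h9 := hcent _ h8
  have h10 : k2 * g1 * k2⁻¹ * y * (k2 * g1 * k2⁻¹)⁻¹ = k2 * (g1 * (k2⁻¹ * y * k2) * g1⁻¹) * k2⁻¹ := by group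
  have h11 : k2 * (k2⁻¹ * y * k2) * k2⁻¹ = y := by group
  rw [h10, h9, h11]
  exact hy

open Cfsg.Agent.H470.PiRad in
/-- **the residue `E₆ × A₁`** -/
theorem left6 [IsSimpleGroup ↥(chevE8.group F)] {x : MulAut ↥(chevE8.group F)} {s m : ℕ} (hs : s.Prime)
    (hst : s ≠ t) (hd : s ∣ Nat.card ↥(chevE8.group F))
    (he : orderOf ((Fintype.card F : ℕ) : ZMod s) = 10)
    (hx : (orderOf x).Prime) (hxs : orderOf x ≠ s) (hm : 11 ≤ m) (hTP : TP (D8 (F := F) t).bn x) (hPC : PC s x)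
    (hFC : FC s m x) (hF : (D8 (F := F) t).F x (Finset.univ.erase 6)) :
    (D8 (F := F) t).F x (Finset.univ.erase 7) := by
  have := (D8 (F := F) t).fin
  have ht : t.Prime := Fact.out
  by_cases hxt : orderOf x = t
  · -- the characteristic
    have h1 : (Finset.univ.erase 6 : Finset (Fin 8)) = {0, 1, 2, 3, 4, 5, 7} := by decide
    rw [h1] at hF
    have h2 : (D8 (F := F) t).F x {0, 1, 2, 3, 4, 5} := by
      refine hF.fx hx (pow_orderOf_eq_one x) hTP (by decide) ?_
      rw [TabE8.rel_0123457_7 (D8 (F := F) t), hxt]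
      obtain ⟨k, -, hk⟩ := FiniteField.card F t
      have htq : t ∣ Fintype.card F := by
        rw [hk]
        exact dvd_pow_self t k.pos.ne'
      intro h3
      exact ht.one_lt.ne' (Nat.dvd_one.1 ((Nat.dvd_add_left htq).1 h3))
    exact h2.up hTP (by decide)
  · have hZ := center_eq_bot (F := F) t
    obtain ⟨y, d, hdd, hxy⟩ := Cfsg.Agent.H73.Pi.FieldGen.cases_E8 hx hZ hs hd hm hFC
    obtain ⟨c, rfl⟩ := inner_of_diag hdd
    have h1 : x = MulAut.conj (y * c) := by
      ext1 a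
      rw [hxy, MulAut.conj_apply, MulAut.conj_apply]
      group
    subst h1
    have h2 : orderOf (y * c) = orderOf (MulAut.conj (y * c)) := by
      refine (orderOf_injective (MulAut.conj : ↥(chevE8.group F) →* MulAut ↥(chevE8.group F)) ?_ _).symm
      rw [injective_iff_map_eq_one]
      intro a ha
      have h3 : a ∈ Subgroup.center ↥(chevE8.group F) := by
        rw [Subgroup.mem_center_iff]
        intro b
        have h4 : a * b * a⁻¹ = b := by
          rw [← MulAut.conj_apply, ha]; rfl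
        exact (mul_inv_eq_iff_eq_mul.1 h4).symm
      rwa [hZ, Subgroup.mem_bot] at h3
    exact left_inner t hs hst he hx hxt hxs h2 hPC hF

open Cfsg.Agent.H470.PiRad in
/-- the residue `E₆ × A₁` does not occur -/
theorem left6_false [IsSimpleGroup ↥(chevE8.group F)] {x : MulAut ↥(chevE8.group F)} {s m : ℕ} (hs : s.Prime)
    (hs3 : 3 ≤ s) (hst : s ≠ t) (hd : s ∣ Nat.card ↥(chevE8.group F))
    (he : orderOf ((Fintype.card F : ℕ) : ZMod s) = 10)
    (hx : (orderOf x).Prime) (hxs : orderOf x ≠ s) (hm : 11 ≤ m) (hTP : TP (D8 (F := F) t).bn x) (hPC : PC s x)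
    (hFC : FC s m x) (hF : (D8 (F := F) t).F x (Finset.univ.erase 6)) : False := by
  have ht : t.Prime := Fact.out
  have h1 := left6 t hs hst hd he hx hxs hm hTP hPC hFC hF
  have he2 : 10 ∈ RowE8.L8 := by decide
  have h2 := RowE8.leaf7 (D8 (F := F) t) ht hs hs3 hst Fintype.card_pos he he2 hTP hPC h1 (by decide)
  have h3 := RowE8.eq_one_of_empty (D8 (F := F) t) ht hs hs3 hst Fintype.card_pos he he2 hTP hPC h2
  rw [h3, orderOf_one] at hx
  exact absurd hx (by norm_num)

end Com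

end Cfsg.Agent.H320.Cyc.LeftE8b
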