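import Cfsg.Agent.H470.PiRad.NRE8Of
import Cfsg.Agent.H320.Cyc.LeftE8b

/-!
# S4324: the row `NR` of `E₈(q)` (helper320, helper470)
-/

set_option autoImplicit false

namespace Cfsg.Agent.H320.Cyc.NRE8

open Cfsg Cfsg.Lie Cfsg.Agent.H216.Pi Cfsg.Agent.H470.PiRad.NRE8

/-- **`E₈(q)`** -/
theorem NR_E8 (t : ℕ) (K : Type) [Group K] [Finite K] [IsSimpleGroup K] (ht : t.Prime)
    (h : ∃ (F : Type) (_ : Field F) (_ : Fintype F) (_ : CharP F t), Nonempty (K ≃* Lie.chevE8.group F)) : NR t K :=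
  NR_E8_of (fun F _ _ t _ _ _ _ _ _ h1 h2 h3 h4 h5 h6 h7 h8 h9 h10 h11 h12 =>
    LeftE8b.left6_false t h1 h2 h3 h4 h5 h6 h7 h8 h9 h10 h11 h12) t K ht h

end Cfsg.Agent.H320.Cyc.NRE8
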