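import Cfsg.Agent.H320.Cyc.E8Tab

/-!
# S4324, `E₈(q)`: the `ℤ/2`-grading by the coefficient of the fundamental root with index `6`: tables (helper320)
-/

set_option autoImplicit false
set_option linter.unusedSectionVars false

namespace Cfsg.Agent.H320.Cyc.E8Tab6

open Cfsg.Lie Cfsg.Agent.ChevalleyStructure.RootVec Cfsg.Agent.H320.Cyc.E8Tab

/-- the roots of level two -/
def L2 : List ℕ := [
  161, 183, 193, 199, 202, 203, 209, 212, 213, 216, 217, 218, 221, 222, 223, 224, 225, 228, 229, 230, 231, 232,
  233, 234, 235, 236, 237]

theorem mem_L2 : ((List.range 240).all fun r => decide (rt chevE8 r 6 = 2 → r ∈ L2)) = true := by decide +kernel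

theorem L2_lev : (L2.all fun r => decide (r < 240) && decide (rt chevE8 r 6 = 2)) = true := by decide +kernel

theorem lev_le : ((List.range 240).all fun r => decide (rt chevE8 r 6 ≤ 3)) = true := by decide +kernel

/-- the isolating words -/
def wds : List (ℕ × List ℕ) := [
  (161, [166, 204]), (183, [138, 204]), (193, [132, 204]), (199, [127, 204]), (202, [123, 204]), (203, [73, 166,
  204]), (209, [127, 194]), (212, [123, 194]), (213, [68, 166, 204]), (216, [123, 188]), (217, [64, 166, 204]),
  (218, [61, 166, 204]), (221, [123, 178]), (222, [54, 166, 204]), (223, [51, 166, 204]), (224, [45, 166, 204]),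
  (225, [35, 166, 204]), (228, [123, 156]), (229, [54, 138, 204]), (230, [51, 138, 204]), (231, [45, 138, 204]),
  (232, [45, 132, 204]), (233, [35, 138, 204]), (234, [35, 132, 204]), (235, [35, 127, 204]), (236, [35, 123,
  204]), (237, [35, 73, 166, 204])]

theorem wds_ok : (wds.all fun p => L2.all fun a => okF em st p.2 a &&
    (runF st p.2 a == if a == p.1 then some 237 else none)) = true := by decide +kernel

theorem wds_lev : (wds.all fun p => p.2.all fun b => decide (b < 240) && decide (rt chevE8 b 6 = 0)) = true := by
  decide +kernel

theorem wds_cov : (L2.all fun a => wds.any fun p => p.1 == a) = true := by decide +kernel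

theorem L2_nodup : L2.Nodup := by decide +kernel

/-- the level is even and the root is orthogonal to the last fundamental root -/
def ev (r : ℕ) : Bool := decide (rt chevE8 r 6 % 2 = 0) && decide (2 * rt chevE8 r 7 = rt chevE8 r 6)

/-- the steps -/
def spr : List (ℕ × ℕ) := [
  (123, 2), (123, 10), (123, 17), (123, 22), (123, 26), (123, 36), (123, 54), (123, 64), (123, 68), (123, 73),
  (123, 86), (123, 90), (123, 95), (123, 101), (123, 107), (123, 112), (123, 126), (123, 131), (123, 137), (123,
  143), (123, 148), (123, 152), (123, 165), (123, 170), (123, 174), (123, 184), (123, 202), (123, 212), (123,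
  216), (123, 221), (123, 228), (123, 236), (3, 116), (3, 126), (3, 131), (3, 137), (3, 143), (3, 148), (3,
  152), (3, 165), (3, 170), (3, 174), (3, 184), (3, 202), (3, 212), (3, 216), (3, 221), (3, 228), (11, 116),
  (11, 165), (11, 170), (11, 174), (11, 184), (11, 202), (11, 212), (11, 216), (11, 221), (11, 236), (18, 116),
  (18, 184), (18, 202), (18, 212), (18, 216), (18, 228), (18, 236), (23, 116), (23, 202), (23, 212), (23, 221),
  (23, 228), (23, 236), (27, 116), (27, 202), (27, 216), (27, 221), (27, 228), (27, 236), (37, 116), (37, 212),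
  (37, 216), (37, 221), (37, 228), (37, 236), (55, 116), (55, 221), (55, 228), (55, 236), (65, 116), (65, 228),
  (65, 236), (69, 116), (69, 228), (69, 236), (74, 116), (74, 228), (74, 236), (87, 116), (87, 236), (91, 116),
  (91, 236), (96, 116), (96, 236), (102, 116), (102, 236), (108, 116), (108, 236), (113, 116), (113, 236), (127,
  116), (132, 116), (138, 116), (144, 116), (149, 116), (153, 116), (166, 116), (171, 116), (175, 116), (185,
  116), (203, 116), (213, 116), (217, 116), (222, 116), (229, 116), (237, 116), (2, 236)]

theorem spr_ok : chkF st ev chevE8.neg [123] spr = true := by decide +kernel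

theorem st_first : st 3 237 = some 123 := by decide +kernel

/-- the word of an element of the Weyl group mapping `E₇` to the roots orthogonal to the last fundamental root -/
def w1 : List (Fin 8) := [6, 5, 4, 3, 2, 1, 3, 4, 5, 6, 0, 2, 3, 4, 5, 1, 3, 4, 2, 3, 0, 2, 1, 3, 4, 5, 6, 7]

/-- the word of an element of the Weyl group mapping the root `237` to the highest root -/
def w2 : List (Fin 8) := [7, 6]

theorem w1_ok : ((List.range 8).all fun i => decide (i = 7) || (decide (rt chevE8 (act w1 (chevE8.simple i)) 6 % 2 = 0) &&
    decide (2 * rt chevE8 (act w1 (chevE8.simple i)) 7 = rt chevE8 (act w1 (chevE8.simple i)) 6))) =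
    true := by decide +kernel

theorem w2_ok : act w2 237 = 239 := by decide +kernel

theorem cor_ok : (chevE8.coroot.getD (chevE8.simple 6) #[]).getD 6 0 = 1 := by decide +kernel

end Cfsg.Agent.H320.Cyc.E8Tab6
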