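import Cfsg.Agent.H508.Tor.Toral
import Cfsg.Agent.H795.LangT

/-!
# Toral elementary abelian subgroups of the finite exceptional groups and eigenvalues of Weyl group elements
(helper320, S4324, CYC)

`m : MData hp r q K₀`. If `E ⊆ K₀` is a set with `s ^ n` elements, all of them of order dividing the prime `s ≠ r`, and
`z ι(E) z⁻¹` lies in the torus `TT`, then there is an integral matrix `w` of finite order such that `q` is an eigenvalue of
`w` modulo `s` with eigenspace of dimension at least `n` (`exists_mat`).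
-/

set_option autoImplicit false
set_option linter.unusedSectionVars false

namespace Cfsg.Agent.H320.Cyc

open CoxeterSystem Cfsg Cfsg.Lie Cfsg.Lie.ChevalleyDatum
open Cfsg.Agent.ChevalleyStructure Cfsg.Agent.ChevalleyStructure.Elts Cfsg.Agent.ChevalleyStructure.CoxeterGeom
  Cfsg.Agent.ChevalleyStructure.CoxeterGeomTypes Cfsg.Agent.ChevalleyStructure.NPerm
open Cfsg.Agent.Tits.Roots Cfsg.Agent.Tits.Core Cfsg.Agent.Nodes Cfsg.Agent.Nodes.Reps Cfsg.Agent.Nodes.BNOf
  Cfsg.Agent.Nodes.RGDChev Cfsg.Agent.Nodes.Bruhat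
open Cfsg.Agent.KFacts.RgdField Cfsg.Agent.KFacts.RgdChevCoord Cfsg.Agent.BpExc.TorCent Cfsg.Agent.BpExc.TorChev
open Cfsg.Agent.GpExc.Field Cfsg.Agent.BpExc.Tow Cfsg.Agent.BpExc.TowChev Cfsg.Agent.BpExc.Fr
  Cfsg.Agent.BpExc.LangFr Cfsg.Agent.H129.TorusChar Cfsg.Agent.H129.TorusMain Cfsg.Agent.H123.ExcZ
open Cfsg.Agent.BpExc
open Cfsg.Agent.H469.Exc Cfsg.Agent.H316.U6 Cfsg.Agent.H795.LangT Cfsg.Agent.H795.SetCent

universe u v

/-! ### automorphisms of the root lattice -/

section Lattice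

variable {l : ℕ} {M : CoxeterMatrix (Fin l)} {A : Matrix (Fin l) (Fin l) ℤ}

/-- an automorphism of the lattice permuting a finite set of vectors containing the basis has finite order -/
theorem exists_iter' {R : Set (Fin l → ℤ)} (hR : R.Finite) (hb : ∀ i, (sr i : Fin l → ℤ) ∈ R)
    (g : (Fin l → ℤ) ≃+ (Fin l → ℤ)) (hg : ∀ x, g x ∈ R ↔ x ∈ R) : ∃ m : ℕ, 0 < m ∧ ∀ x, g^[m] x = x := by
  let Φ : Type := {a : Fin l → ℤ // a ∈ R}
  have : Finite Φ := hR
  let π : Equiv.Perm Φ :=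
    { toFun := fun a => ⟨g a.1, (hg _).2 a.2⟩
      invFun := fun a => ⟨g.symm a.1, (hg _).1 (by rw [AddEquiv.apply_symm_apply]; exact a.2)⟩
      left_inv := fun a => Subtype.ext (g.symm_apply_apply _)
      right_inv := fun a => Subtype.ext (g.apply_symm_apply _) }
  have hπ : ∀ (n : ℕ) (a : Φ), ((π ^ n) a).1 = g^[n] a.1 := by
    intro n
    induction n with
    | zero => intro a; rfl
    | succ n ih =>
      intro a
      rw [pow_succ', Equiv.Perm.mul_apply, Function.iterate_succ_apply']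
      show g ((π ^ n) a).1 = _
      rw [ih]
  have hm : 0 < orderOf π := orderOf_pos π
  refine ⟨orderOf π, hm, fun x => ?_⟩
  have h1 : ∀ i, g^[orderOf π] (sr i) = sr i := by
    intro i
    have h2 := hπ (orderOf π) ⟨sr i, hb i⟩
    rw [pow_orderOf_eq_one] at h2
    exact h2.symm
  have h2 : ∀ n : ℕ, ∃ f : (Fin l → ℤ) →+ (Fin l → ℤ), ∀ x, f x = g^[n] x := by
    intro n
    induction n with
    | zero => exact ⟨AddMonoidHom.id _, fun _ => rfl⟩
    | succ n ih =>
      obtain ⟨f, hf⟩ := ih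
      refine ⟨g.toAddMonoidHom.comp f, fun x => ?_⟩
      rw [Function.iterate_succ_apply', ← hf]
      rfl
  obtain ⟨f, hf⟩ := h2 (orderOf π)
  rw [← hf, IsMC.eq_sum_sr x, map_sum]
  refine Finset.sum_congr rfl fun i _ => ?_
  rw [map_zsmul, hf, h1]

/-- the matrix of an additive map -/
def mat (g : (Fin l → ℤ) → (Fin l → ℤ)) : Matrix (Fin l) (Fin l) ℤ := Matrix.of fun i j => g (sr i) j

theorem mat_mul (f g : (Fin l → ℤ) →+ (Fin l → ℤ)) : mat (l := l) (fun x => f (g x)) = mat g * mat f := by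
  ext i j
  rw [Matrix.mul_apply]
  show f (g (sr i)) j = ∑ k, g (sr i) k * f (sr k) j
  conv_lhs => rw [IsMC.eq_sum_sr (g (sr i)), map_sum, Finset.sum_apply]
  refine Finset.sum_congr rfl fun k _ => ?_
  rw [map_zsmul, Pi.smul_apply, smul_eq_mul]

theorem mat_pow (g : (Fin l → ℤ) →+ (Fin l → ℤ)) (n : ℕ) : mat (l := l) (g^[n]) = mat g ^ n := by
  have h2 : ∀ n : ℕ, ∃ f : (Fin l → ℤ) →+ (Fin l → ℤ), ∀ x, f x = g^[n] x := by
    intro n
    induction n with
    | zero => exact ⟨AddMonoidHom.id _, fun _ => rfl⟩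
    | succ n ih =>
      obtain ⟨f, hf⟩ := ih
      refine ⟨g.comp f, fun x => ?_⟩
      rw [Function.iterate_succ_apply', ← hf]
      rfl
  induction n with
  | zero =>
    ext i j
    rw [pow_zero]
    show (sr i : Fin l → ℤ) j = _
    by_cases h : j = i
    · subst h
      rw [sr_self, Matrix.one_apply_eq]
    · rw [sr_ne h, Matrix.one_apply_ne (Ne.symm h)]
  | succ n ih =>
    obtain ⟨f, hf⟩ := h2 n
    have e : g^[n] = f := funext fun x => (hf x).symm
    rw [Function.iterate_succ, pow_succ', ← ih, e]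
    exact mat_mul f g

end Lattice

/-! ### the eigenvalue -/

variable {D : ChevalleyDatum} {l : ℕ} {M : CoxeterMatrix (Fin l)} {hp : IsType D l M} {r q : ℕ}
  [hr : Fact r.Prime] {K₀ : Type v} [Group K₀]

/-- the element of the Weyl group -/
theorem exists_rep (m : MData hp r q K₀) {ι : Type*} [Finite ι] (a : ι → K₀) {z : ↥(D.group (KK r))}
    (hz : ∀ i, z * m.ι (a i) * z⁻¹ ∈ TT D (KK r)) :
    ∃ h : (Fin l → ℤ) ≃+ (Fin l → ℤ), (∃ N : ℕ, 0 < N ∧ ∀ x, h^[N] x = x) ∧
      ∀ i x, cX hp (z * m.ι (a i) * z⁻¹) (h x) = cX hp (z * m.ι (a i) * z⁻¹) x ^ q := by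
  have hk := locFin r
  have hfinW := finite_W hp M.toCoxeterSystem
  have hTL := TL_eq (k := KK r) hp hk
  have hXL := XL_eq (k := KK r) hp hk
  have H := tow (k := KK r) hp M.toCoxeterSystem hk r
  have C : Coords M.toCoxeterSystem hp.isCartan (TL (Tj hp (k := KK r))) (nc hp (KK r)) (XL (Xj hp)) (xc hp) (ch hp) := by
    rw [hTL, hXL]
    exact coordsL hp M.toCoxeterSystem hk r
  have hσT : ∀ i, m.σ (z * m.ι (a i) * z⁻¹) ∈ TT D (KK r) := fun i => (m.fr.tor _).2 (hz i)
  have hGG := GG_eq_top (k := KK r) hp M.toCoxeterSystem hk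
  obtain ⟨-, -, w, n, hn, hk2, -⟩ := exists_formZ H C (ι := ι) (s := fun i => z * m.ι (a i) * z⁻¹)
    (t := fun i => m.σ (z * m.ι (a i) * z⁻¹)) (c := m.σ z * z⁻¹)
    (fun i => by rw [hTL]; exact hz i) (fun i => by rw [hTL]; exact hσT i)
    (by rw [hGG]; exact Subgroup.mem_top _) (fun i => by
      rw [map_mul, map_mul, map_inv, m.fix]
      group)
  let f : (Fin l → ℤ) ≃+ (Fin l → ℤ) :=
    { toFun := fun x => rep M.toCoxeterSystem hp.isCartan w⁻¹ (m.g x)
      invFun := fun x => m.g.symm (rep M.toCoxeterSystem hp.isCartan w x)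
      left_inv := fun x => by
        show m.g.symm (rep M.toCoxeterSystem hp.isCartan w (rep M.toCoxeterSystem hp.isCartan w⁻¹ (m.g x))) = x
        rw [rep_apply_inv, AddEquiv.symm_apply_apply]
      right_inv := fun x => by
        show rep M.toCoxeterSystem hp.isCartan w⁻¹ (m.g (m.g.symm (rep M.toCoxeterSystem hp.isCartan w x))) = x
        rw [AddEquiv.apply_symm_apply, rep_inv_apply]
      map_add' := fun x y => by rw [map_add, map_add] }
  have hf : ∀ x, rep M.toCoxeterSystem hp.isCartan w (f x) = m.g x := fun x => rep_apply_inv _ _ _ _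
  refine ⟨f, ?_, fun i x => ?_⟩
  · refine exists_iter' (R := {a | IsRoot M.toCoxeterSystem hp.isCartan a})
      (RGD.finite_roots (cs := M.toCoxeterSystem) (h := hp.isCartan)) (fun i => isRoot_sr _ _ i) f fun x => ?_
    constructor
    · intro h1
      have h2 := IsRoot.act (h := hp.isCartan) h1 w
      rw [hf] at h2
      exact (m.fr.root _).1 h2
    · intro h1
      exact IsRoot.act (h := hp.isCartan) ((m.fr.root _).2 h1) w⁻¹
  · have h1 := cX_rp' hp hk hn (hz i) (f x)
    have h2 : n * (z * m.ι (a i) * z⁻¹) * n⁻¹ = m.σ (z * m.ι (a i) * z⁻¹) := by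
      rw [hk2 i, mul_inv_cancel_right]
    rw [h2, hf] at h1
    rw [← h1]
    exact (cX_sigma hp M.toCoxeterSystem m.frob m.fr (hz i) x).trans (by rw [m.hq])

/-- **The eigenvalue.** -/
theorem exists_mat (m : MData hp r q K₀) {s n : ℕ} [hs : Fact s.Prime] (hsr : s ≠ r) {ι : Type*} [Finite ι]
    (hι : Nat.card ι = s ^ n) (a : ι → K₀) (hinj : Function.Injective a) (hpow : ∀ i, a i ^ s = 1)
    {z : ↥(D.group (KK r))} (hz : ∀ i, z * m.ι (a i) * z⁻¹ ∈ TT D (KK r)) :
    ∃ (w : Matrix (Fin l) (Fin l) ℤ) (N : ℕ), 0 < N ∧ w ^ N = 1 ∧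
      n ≤ Module.finrank (ZMod s) (LinearMap.ker (Matrix.toLin' (w.map (Int.castRingHom (ZMod s))) -
        (q : ZMod s) • LinearMap.id)) := by
  obtain ⟨h, ⟨N, hN, hN1⟩, hh⟩ := exists_rep m a hz
  set t : ι → ↥(D.group (KK r)) := fun i => z * m.ι (a i) * z⁻¹ with ht
  have htT : ∀ i, t i ∈ TT D (KK r) := hz
  have htinj : Function.Injective t := by
    intro i j hij
    have h1 : z * m.ι (a i) * z⁻¹ = z * m.ι (a j) * z⁻¹ := hij
    exact hinj (m.inj (mul_left_cancel (mul_right_cancel h1)))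
  have htpow : ∀ i x, cX hp (t i) x ^ s = 1 := by
    intro i x
    rw [← cX_pow hp (htT i)]
    have h1 : t i ^ s = 1 := by
      show (z * m.ι (a i) * z⁻¹) ^ s = 1
      rw [conj_pow, ← map_pow, hpow, map_one, mul_one, mul_inv_cancel]
    rw [h1, cX_one]
  have hsK : NeZero (s : KK r) := by
    refine ⟨fun h1 => ?_⟩
    rw [CharP.cast_eq_zero_iff (KK r) r] at h1
    exact hsr ((Nat.prime_dvd_prime_iff_eq hr.out hs.out).1 h1).symm
  obtain ⟨ζ, hζ⟩ := HasEnoughRootsOfUnity.exists_primitiveRoot (KK r) s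
  have hex : ∀ i j, ∃ c : ℕ, ζ ^ c = cX hp (t i) (sr j) := by
    intro i j
    obtain ⟨c, -, hc⟩ := hζ.eq_pow_of_pow_eq_one (htpow i (sr j))
    exact ⟨c, hc⟩
  choose c hc using hex
  have hζ0 : ζ ≠ 0 := hζ.ne_zero hs.out.ne_zero
  have hcx : ∀ i x, cX hp (t i) x = ζ ^ (∑ j, x j * (c i j : ℤ)) := by
    intro i x
    have h1 : ∀ S : Finset (Fin l), ∏ j ∈ S, cX hp (t i) (sr j) ^ x j = ζ ^ (∑ j ∈ S, x j * (c i j : ℤ)) := by
      intro S
      classical
      induction S using Finset.induction_on with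
      | empty => simp
      | insert j S hj ih =>
        rw [Finset.prod_insert hj, Finset.sum_insert hj, zpow_add₀ hζ0, ih, ← hc, ← zpow_natCast, ← zpow_mul,
          mul_comm (c i j : ℤ)]
    rw [(isMC_cX hp (htT i)).eq_prod x]
    exact h1 Finset.univ
  have hkey : ∀ i k, ∑ j, ((h (sr k) j : ℤ) : ZMod s) * (c i j : ZMod s) = (q : ZMod s) * (c i k : ZMod s) := by
    intro i k
    have h1 := hh i (sr k)
    have h2 : cX hp (t i) (h (sr k)) = cX hp (t i) (sr k) ^ q := h1
    rw [hcx, ← hc, ← pow_mul] at h2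
    have h3 : ζ ^ (∑ j, h (sr k) j * (c i j : ℤ) - ((c i k * q : ℕ) : ℤ)) = 1 := by
      rw [zpow_sub₀ hζ0, h2, zpow_natCast, div_self (pow_ne_zero _ hζ0)]
    rw [hζ.zpow_eq_one_iff_dvd, ← ZMod.intCast_zmod_eq_zero_iff_dvd] at h3
    push_cast at h3
    rw [sub_eq_zero] at h3
    rw [h3, mul_comm]
  refine ⟨mat h, N, hN, ?_, ?_⟩
  · refine (mat_pow h.toAddMonoidHom N).symm.trans ?_
    ext i j
    show (h^[N] (sr i)) j = _
    rw [hN1]
    by_cases hij : j = i
    · subst hij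
      rw [sr_self, Matrix.one_apply_eq]
    · rw [sr_ne hij, Matrix.one_apply_ne (Ne.symm hij)]
  · set U := LinearMap.ker (Matrix.toLin' ((mat h).map (Int.castRingHom (ZMod s))) - (q : ZMod s) • LinearMap.id)
      with hU
    have hmem : ∀ i, (fun j => (c i j : ZMod s)) ∈ U := by
      intro i
      rw [hU, LinearMap.mem_ker, LinearMap.sub_apply, LinearMap.smul_apply, LinearMap.id_apply, sub_eq_zero,
        Matrix.toLin'_apply]
      funext k
      exact hkey i k
    have hinjc : Function.Injective (fun i : ι => (⟨fun j => (c i j : ZMod s), hmem i⟩ : U)) := by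
      intro i i' hii
      have h1 : ∀ j, (c i j : ZMod s) = c i' j := fun j => congrFun (congrArg Subtype.val hii) j
      apply htinj
      refine cX_inj hp (htT i) (htT i') fun j => ?_
      rw [← hc, ← hc]
      have h2 := (ZMod.natCast_eq_natCast_iff _ _ _).1 (h1 j)
      exact (hζ.isOfFinOrder hs.out.pos.ne').pow_eq_pow_iff_modEq.2 (by rwa [← hζ.eq_orderOf])
    have hcard := Nat.card_le_card_of_injective _ hinjc
    rw [hι, Module.natCard_eq_pow_finrank (K := ZMod s), Nat.card_zmod] at hcard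
    exact (Nat.pow_le_pow_iff_right hs.out.one_lt).1 hcard

end Cfsg.Agent.H320.Cyc
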